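import Mathlib
import Cfsg.Agent.H940.MaxCls
import Cfsg.Agent.H101.SzSub
import Cfsg.Agent.S2251
import Cfsg.Agent.S2239
import Cfsg.Agent.S2238
import Cfsg.Agent.S2247
import Cfsg.Agent.S0333
import Cfsg.Agent.S0324
import Cfsg.Agent.S0325
import Cfsg.Agent.S0331

/-!
# The classes of maximal subgroups of the Suzuki groups (helper761, task 469 of helper940): tori
-/

set_option autoImplicit false

namespace Cfsg.Agent.H761.SzCls

open Subgroup MulAction Cfsg.Agent.H940.MaxCls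
open Cfsg.Agent.H101.SzGeo

/-! ### arithmetic -/

/-- the orders of the tori -/
def nT (m : ℕ) : Fin 3 → ℕ :=
  ![2 ^ (2 * m + 1) - 1, 2 ^ (2 * m + 1) + 2 ^ (m + 1) + 1, 2 ^ (2 * m + 1) - 2 ^ (m + 1) + 1]

theorem nT_zero (m : ℕ) : nT m 0 = 2 ^ (2 * m + 1) - 1 := rfl
theorem nT_one (m : ℕ) : nT m 1 = 2 ^ (2 * m + 1) + 2 ^ (m + 1) + 1 := rfl
theorem nT_two (m : ℕ) : nT m 2 = 2 ^ (2 * m + 1) - 2 ^ (m + 1) + 1 := rfl

theorem mem_set_iff {m n : ℕ} : n ∈ ({2 ^ (2 * m + 1) - 1, 2 ^ (2 * m + 1) + 2 ^ (m + 1) + 1,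
    2 ^ (2 * m + 1) - 2 ^ (m + 1) + 1} : Set ℕ) ↔ ∃ i, n = nT m i := by
  constructor
  · rintro (h | h | h)
    · exact ⟨0, h⟩
    · exact ⟨1, h⟩
    · exact ⟨2, h⟩
  · rintro ⟨i, h⟩
    fin_cases i
    · exact Or.inl h
    · exact Or.inr (Or.inl h)
    · exact Or.inr (Or.inr h)

/-- the basic numbers: `q = 2 ^ (2m+1)`, `t = 2 ^ (m+1)` -/
theorem qt {m : ℕ} (hm : 1 ≤ m) : 2 ^ (m + 1) * 2 ^ (m + 1) = 2 * 2 ^ (2 * m + 1) ∧ 8 ≤ 2 ^ (2 * m + 1) ∧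
    2 * 2 ^ (m + 1) ≤ 2 ^ (2 * m + 1) ∧ 2 ∣ 2 ^ (2 * m + 1) ∧ 2 ∣ 2 ^ (m + 1) := by
  refine ⟨?_, ?_, ?_, dvd_pow_self 2 (by omega), dvd_pow_self 2 (by omega)⟩
  · rw [← pow_add, ← pow_succ']
    congr 1
    ring
  · calc 8 = 2 ^ 3 := by norm_num
      _ ≤ 2 ^ (2 * m + 1) := Nat.pow_le_pow_right (by norm_num) (by omega)
  · rw [← pow_succ']
    exact Nat.pow_le_pow_right (by norm_num) (by omega)

theorem mul_nT {m : ℕ} (hm : 1 ≤ m) : nT m 1 * nT m 2 = 2 ^ (2 * m + 1) * 2 ^ (2 * m + 1) + 1 := by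
  obtain ⟨h1, h2, h3, -, -⟩ := qt hm
  rw [nT_one, nT_two]
  set q := 2 ^ (2 * m + 1)
  set t := 2 ^ (m + 1)
  obtain ⟨d, hd⟩ : ∃ d, q = t + d := ⟨q - t, by omega⟩
  have h4 : q - t = d := by omega
  rw [h4]
  nlinarith

theorem odd_nT {m : ℕ} (hm : 1 ≤ m) (i : Fin 3) : ¬ 2 ∣ nT m i := by
  obtain ⟨h1, h2, h3, h4, h5⟩ := qt hm
  fin_cases i
  · show ¬ 2 ∣ 2 ^ (2 * m + 1) - 1
    omega
  · show ¬ 2 ∣ 2 ^ (2 * m + 1) + 2 ^ (m + 1) + 1
    omega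
  · show ¬ 2 ∣ 2 ^ (2 * m + 1) - 2 ^ (m + 1) + 1
    omega

theorem four_lt_nT {m : ℕ} (hm : 1 ≤ m) (i : Fin 3) : 4 < nT m i := by
  obtain ⟨h1, h2, h3, h4, h5⟩ := qt hm
  fin_cases i
  · show 4 < 2 ^ (2 * m + 1) - 1
    omega
  · show 4 < 2 ^ (2 * m + 1) + 2 ^ (m + 1) + 1
    omega
  · show 4 < 2 ^ (2 * m + 1) - 2 ^ (m + 1) + 1
    have : 4 ≤ 2 ^ (m + 1) := by
      calc 4 = 2 ^ 2 := by norm_num
        _ ≤ 2 ^ (m + 1) := Nat.pow_le_pow_right (by norm_num) (by omega)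
    omega

theorem prime_two_of_dvd {p k : ℕ} (hp : p.Prime) (h : p ∣ 2 ^ k) : p = 2 :=
  (Nat.prime_dvd_prime_iff_eq hp Nat.prime_two).1 (hp.dvd_of_dvd_pow h)

theorem disj_nT {m : ℕ} (hm : 1 ≤ m) {i j : Fin 3} {p : ℕ} (hp : p.Prime) (hi : p ∣ nT m i) (hj : p ∣ nT m j) : i = j := by
  obtain ⟨h1, h2, h3, h4, h5⟩ := qt hm
  have hp2 : p ≠ 2 := by rintro rfl; exact odd_nT hm i hi
  have hA : ∀ j : Fin 3, j ≠ 0 → p ∣ nT m 0 → p ∣ nT m j → False := by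
    intro j hj0 ha hb
    have h6 : p ∣ nT m 1 * nT m 2 := by
      fin_cases j
      · exact absurd rfl hj0
      · exact hb.mul_right _
      · exact hb.mul_left _
    rw [mul_nT hm] at h6
    rw [nT_zero] at ha
    have h7 : 2 ^ (2 * m + 1) * 2 ^ (2 * m + 1) + 1 = (2 ^ (2 * m + 1) - 1) * (2 ^ (2 * m + 1) + 1) + 2 := by
      obtain ⟨d, hd⟩ : ∃ d, 2 ^ (2 * m + 1) = d + 1 := ⟨2 ^ (2 * m + 1) - 1, by omega⟩
      rw [hd, Nat.add_sub_cancel]
      ring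
    rw [h7] at h6
    have h8 : p ∣ 2 := (Nat.dvd_add_right (ha.mul_right _)).1 h6
    exact hp2 ((Nat.prime_dvd_prime_iff_eq hp Nat.prime_two).1 h8)
  have hB : p ∣ nT m 1 → p ∣ nT m 2 → False := by
    intro ha hb
    rw [nT_one] at ha
    rw [nT_two] at hb
    have h6 : 2 ^ (2 * m + 1) + 2 ^ (m + 1) + 1 = (2 ^ (2 * m + 1) - 2 ^ (m + 1) + 1) + 2 ^ (m + 2) := by
      have h7 : 2 ^ (m + 2) = 2 * 2 ^ (m + 1) := by rw [← pow_succ']
      omega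
    rw [h6] at ha
    exact hp2 (prime_two_of_dvd hp ((Nat.dvd_add_right hb).1 ha))
  fin_cases i <;> fin_cases j
  · rfl
  · exact (hA 1 (by decide) hi hj).elim
  · exact (hA 2 (by decide) hi hj).elim
  · exact (hA 1 (by decide) hj hi).elim
  · rfl
  · exact (hB hi hj).elim
  · exact (hA 2 (by decide) hj hi).elim
  · exact (hB hj hi).elim
  · rfl

theorem coprime_nT {m : ℕ} (hm : 1 ≤ m) {i j : Fin 3} (hij : i ≠ j) : Nat.Coprime (nT m i) (nT m j) := by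
  apply Nat.Coprime.symm
  rw [Nat.coprime_iff_gcd_eq_one]
  by_contra h
  obtain ⟨p, hp, hpd⟩ := Nat.exists_prime_and_dvd h
  exact hij (disj_nT hm hp (hpd.trans (Nat.gcd_dvd_right _ _)) (hpd.trans (Nat.gcd_dvd_left _ _)))

theorem coprime_two {m : ℕ} (hm : 1 ≤ m) (i : Fin 3) (k : ℕ) : Nat.Coprime (nT m i) (2 ^ k) :=
  ((Nat.coprime_primes_of_not_dvd hm i)).pow_right k
where
  Nat.coprime_primes_of_not_dvd {m : ℕ} (hm : 1 ≤ m) (i : Fin 3) : Nat.Coprime (nT m i) 2 :=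
    ((Nat.Prime.coprime_iff_not_dvd Nat.prime_two).2 (odd_nT hm i)).symm

/-! ### the tori -/

variable {F : Type*} [Field F] [Fintype F] {m : ℕ}

/-- the cyclic subgroups of order `nT m i` -/
def IsTor (U : Subgroup (Cfsg.Sz F m)) (i : Fin 3) : Prop := IsCyclic U ∧ Nat.card U = nT m i

theorem finite_Sz (F : Type*) [Field F] [Fintype F] (m : ℕ) : Finite (Cfsg.Sz F m) := inferInstance

theorem exists_tor (hm : 1 ≤ m) (hF : Fintype.card F = 2 ^ (2 * m + 1)) (i : Fin 3) :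
    ∃ U : Subgroup (Cfsg.Sz F m), IsTor U i ∧ (i ≠ 0 → Nat.card (normalizer (U : Set (Cfsg.Sz F m))) = 4 * nT m i) := by
  by_cases hi : i = 0
  · subst hi
    exact ⟨T hF, T_cyclic hm hF, fun h => absurd rfl h⟩
  · obtain ⟨U, h1, h2, -, h4⟩ := S0333.result hm hF (nT m i) (by
      fin_cases i
      · exact absurd rfl hi
      · exact Or.inl rfl
      · exact Or.inr rfl)
    exact ⟨U, ⟨h1, h2⟩, fun _ => h4⟩

/-- a torus is the centralizer of its nonidentity elements -/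
theorem IsTor.cent (hm : 1 ≤ m) (hF : Fintype.card F = 2 ^ (2 * m + 1)) {U : Subgroup (Cfsg.Sz F m)} {i : Fin 3}
    (hU : IsTor U i) {u : Cfsg.Sz F m} (hu : u ∈ U) (hu1 : u ≠ 1) : centralizer {u} = U := by
  obtain ⟨V, -, huniq⟩ := S2238.result hm hF u hu1
  have hUV : U = V := huniq U ⟨Or.inr ⟨hU.1, mem_set_iff.2 ⟨i, hU.2⟩⟩, hu⟩
  rcases trichotomy hm hF hu1 with ⟨a, ha⟩ | ⟨W, h1, h2, h3, h4⟩
  · exfalso
    obtain ⟨S, hS, -⟩ := H101.SzSub.exists_sylow hm hF a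
    have h5 : (S : Subgroup (Cfsg.Sz F m)) = V := huniq _ ⟨Or.inl ⟨S, rfl⟩, by rw [hS]; exact ha⟩
    have h6 : IsPGroup 2 U := by rw [hUV, ← h5]; exact S.isPGroup'
    obtain ⟨k, hk⟩ := h6.exists_card_eq
    rw [hU.2] at hk
    have h7 : Nat.Coprime (nT m i) (nT m i) := by
      conv_rhs => rw [hk]
      exact coprime_two hm i k
    rw [Nat.coprime_self] at h7
    have := four_lt_nT hm i
    omega
  · have h5 : W = V := huniq W ⟨Or.inr ⟨h2, h3⟩, h1⟩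
    rw [h4 u h1 hu1, h5, hUV]

theorem IsTor.eq (hm : 1 ≤ m) (hF : Fintype.card F = 2 ^ (2 * m + 1)) {U V : Subgroup (Cfsg.Sz F m)} {i j : Fin 3}
    (hU : IsTor U i) (hV : IsTor V j) {u : Cfsg.Sz F m} (hu : u ∈ U) (hv : u ∈ V) (hu1 : u ≠ 1) : U = V := by
  rw [← hU.cent hm hF hu hu1, hV.cent hm hF hv hu1]

theorem IsTor.map {U : Subgroup (Cfsg.Sz F m)} {i : Fin 3} (hU : IsTor U i) (g : Cfsg.Sz F m) :
    IsTor (U.map (MulAut.conj g).toMonoidHom) i := by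
  have := hU.1
  refine ⟨isCyclic_of_surjective (U.equivMapOfInjective (MulAut.conj g).toMonoidHom (MulAut.conj g).injective).toMonoidHom
    (MulEquiv.surjective _), ?_⟩
  rw [card_map_conj, hU.2]

/-- In a cyclic group the subgroups of the same order are equal. -/
theorem eq_of_card_of_cyclic {G : Type*} [Group G] [Finite G] {Q A B : Subgroup G} (hQ : IsCyclic Q) (hA : A ≤ Q)
    (hB : B ≤ Q) {p : ℕ} (hp : 0 < p) (h1 : Nat.card A = p) (h2 : Nat.card B = p) : A = B := by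
  classical
  have : Fintype Q := Fintype.ofFinite _
  have hle := IsCyclic.card_pow_eq_one_le (α := Q) hp
  have key : ∀ C : Subgroup G, C ≤ Q → Nat.card C = p → ∀ x : Q, (x : G) ∈ C ↔ x ^ p = 1 := by
    intro C hC hCp
    have hCf : Fintype (C.subgroupOf Q) := Fintype.ofFinite _
    have h3 : (Finset.univ.filter fun x : Q => (x : G) ∈ C) ⊆ Finset.univ.filter fun x : Q => x ^ p = 1 := by
      intro x hx
      simp only [Finset.mem_filter, Finset.mem_univ, true_and] at hx ⊢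
      apply Subtype.ext
      have h4 : (⟨(x : G), hx⟩ : C) ^ p = 1 := by
        rw [← hCp]
        exact pow_card_eq_one'
      simpa using congrArg Subtype.val h4
    have h5 : (Finset.univ.filter fun x : Q => (x : G) ∈ C).card = p := by
      rw [← hCp, ← Nat.card_congr (Subgroup.subgroupOfEquivOfLe hC).toEquiv, Nat.card_eq_fintype_card,
        Fintype.card_subtype]
      rfl
    have h6 := Finset.eq_of_subset_of_card_le h3 (by rw [h5]; exact hle)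
    intro x
    have h7 : x ∈ (Finset.univ.filter fun x : Q => (x : G) ∈ C) ↔ x ∈ Finset.univ.filter fun x : Q => x ^ p = 1 := by
      rw [h6]
    simpa using h7
  ext x
  constructor
  · intro hx
    exact (key B hB h2 ⟨x, hA hx⟩).2 ((key A hA h1 ⟨x, hA hx⟩).1 hx)
  · intro hx
    exact (key A hA h1 ⟨x, hB hx⟩).2 ((key B hB h2 ⟨x, hB hx⟩).1 hx)

/-- tori of the same order are conjugate -/
theorem IsTor.conj (hm : 1 ≤ m) (hF : Fintype.card F = 2 ^ (2 * m + 1)) {U V : Subgroup (Cfsg.Sz F m)} {i : Fin 3}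
    (hU : IsTor U i) (hV : IsTor V i) : ∃ g : Cfsg.Sz F m, U.map (MulAut.conj g).toMonoidHom = V := by
  have hfin := finite_Sz F m
  obtain ⟨p, hp, hpd⟩ := Nat.exists_prime_and_dvd (n := nT m i) (by have := four_lt_nT hm i; omega)
  have : Fact p.Prime := ⟨hp⟩
  have hp2 : p ≠ 2 := by rintro rfl; exact odd_nT hm i hpd
  obtain ⟨u, hu⟩ := exists_prime_orderOf_dvd_card' p (hU.2 ▸ hpd : p ∣ Nat.card U)
  obtain ⟨v, hv⟩ := exists_prime_orderOf_dvd_card' p (hV.2 ▸ hpd : p ∣ Nat.card V)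
  have hu' : orderOf (u : Cfsg.Sz F m) = p := by rw [Subgroup.orderOf_coe, hu]
  have hv' : orderOf (v : Cfsg.Sz F m) = p := by rw [Subgroup.orderOf_coe, hv]
  have hPu : IsPGroup p (zpowers (u : Cfsg.Sz F m)) := IsPGroup.of_card (n := 1) (by rw [Nat.card_zpowers, hu', pow_one])
  have hPv : IsPGroup p (zpowers (v : Cfsg.Sz F m)) := IsPGroup.of_card (n := 1) (by rw [Nat.card_zpowers, hv', pow_one])
  obtain ⟨P, hP⟩ := hPu.exists_le_sylow
  obtain ⟨Q, hQ⟩ := hPv.exists_le_sylow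
  obtain ⟨g, hg⟩ := MulAction.exists_smul_eq (Cfsg.Sz F m) P Q
  have h1 : (zpowers (u : Cfsg.Sz F m)).map (MulAut.conj g).toMonoidHom ≤ (Q : Subgroup (Cfsg.Sz F m)) := by
    rw [← hg, Sylow.coe_subgroup_smul]
    exact Subgroup.map_mono hP
  have h2 := eq_of_card_of_cyclic (S0331.result hm hF hp2 Q) h1 hQ hp.pos (by rw [card_map_conj, Nat.card_zpowers, hu'])
    (by rw [Nat.card_zpowers, hv'])
  have h3 : g * u * g⁻¹ ∈ zpowers (v : Cfsg.Sz F m) := by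
    rw [← h2]
    exact ⟨u, mem_zpowers _, rfl⟩
  have h4 : g * u * g⁻¹ ≠ 1 := by
    intro h
    have h5 : (u : Cfsg.Sz F m) = 1 := by
      have h6 : (u : Cfsg.Sz F m) = g⁻¹ * (g * u * g⁻¹) * g := by group
      rw [h6, h]
      group
    rw [h5, orderOf_one] at hu'
    exact hp.one_lt.ne hu'
  refine ⟨g, (hU.map g).eq hm hF hV (u := g * u * g⁻¹) ⟨u, u.2, rfl⟩ ?_ h4⟩
  exact (zpowers_le.2 v.2) h3

end Cfsg.Agent.H761.SzCls
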