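import Mathlib
import Cfsg.Agent.H940.MaxCls

/-!
# Five pairwise apart subgroups of the alternating groups (helper761, task 468 of helper940)

`alt : 6 ≤ n → Sep 5 (alternatingGroup (Fin n))`.
-/

set_option autoImplicit false
set_option maxRecDepth 100000

namespace Cfsg.Agent.H761.AltSep

open Cfsg.Agent.H940.MaxCls MulAction Equiv Equiv.Perm
open scoped Pointwise

/-! ### stabilizers of `k`-subsets -/

theorem le_stab {n : ℕ} (hn : 4 ≤ n) {s t : Set (Fin n)}
    (h : stabilizer (alternatingGroup (Fin n)) s ≤ stabilizer (alternatingGroup (Fin n)) t) :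
    t.ncard = 0 ∨ t.ncard = s.ncard ∨ t.ncard + s.ncard = n ∨ t.ncard = n := by
  have hc : 4 ≤ Nat.card (Fin n) := by simpa using hn
  have hadd := Set.ncard_add_ncard_compl s
  have hadd' := Set.ncard_add_ncard_compl t
  rw [Nat.card_fin] at hadd hadd'
  have key : ∀ r : Set (Fin n), stabilizer (alternatingGroup (Fin n)) r ≤ stabilizer (alternatingGroup (Fin n)) t →
      (r ∩ t).Nonempty → r ⊆ t := by
    rintro r hr ⟨a, ha, hat⟩ b hb
    obtain ⟨g, hg, rfl⟩ := alternatingGroup.exists_mem_stabilizer_smul_eq hc a ha b hb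
    have h1 := hr hg
    rw [mem_stabilizer_iff] at h1
    rw [← h1]
    exact Set.smul_mem_smul_set hat
  have h1 := key s h
  have h2 := key sᶜ (by rw [stabilizer_compl]; exact h)
  by_cases hst : (s ∩ t).Nonempty
  · have h3 := h1 hst
    by_cases hst' : (sᶜ ∩ t).Nonempty
    · have h4 := h2 hst'
      have h5 : t = Set.univ := by
        rw [Set.eq_univ_iff_forall]
        intro x
        by_cases hx : x ∈ s
        · exact h3 hx
        · exact h4 hx
      right; right; right
      rw [h5, Set.ncard_univ, Nat.card_fin]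
    · right; left
      congr 1
      refine Set.Subset.antisymm (fun x hx => ?_) h3
      by_contra hxs
      exact hst' ⟨x, hxs, hx⟩
  · have ht : t ⊆ sᶜ := fun x hx hxs => hst ⟨x, hxs, hx⟩
    by_cases hst' : (sᶜ ∩ t).Nonempty
    · have h4 := h2 hst'
      have h5 : t = sᶜ := Set.Subset.antisymm ht h4
      right; right; left
      rw [h5]
      omega
    · left
      have h5 : t = ∅ := by
        rw [Set.eq_empty_iff_forall_notMem]
        intro x hx
        exact hst' ⟨x, ht hx, hx⟩
      rw [h5, Set.ncard_empty]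

theorem coatom_stab {n : ℕ} {s : Set (Fin n)} (hs : 0 < s.ncard) (hn2 : 2 * s.ncard < n) :
    IsCoatom (stabilizer (alternatingGroup (Fin n)) s) := by
  have hadd := Set.ncard_add_ncard_compl s
  rw [Nat.card_fin] at hadd
  refine alternatingGroup.isCoatom_stabilizer ?_ ?_ ?_
  · exact Set.nonempty_of_ncard_ne_zero hs.ne'
  · exact Set.nonempty_of_ncard_ne_zero (by omega)
  · rw [Nat.card_fin]; omega

theorem apart_stab {n : ℕ} (hn : 4 ≤ n) {s t : Set (Fin n)} (hs : 0 < s.ncard)
    (h : s.ncard < t.ncard) (hn2 : 2 * t.ncard < n) :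
    Apart (stabilizer (alternatingGroup (Fin n)) s) (stabilizer (alternatingGroup (Fin n)) t) := by
  refine apart_of_coatom (coatom_stab hs (by omega)) fun g => ?_
  by_contra hcon
  push Not at hcon
  have h1 : stabilizer (alternatingGroup (Fin n)) (g • t) ≤ stabilizer (alternatingGroup (Fin n)) s := by
    intro x hx
    have h2 := hcon (g⁻¹ * x * g) (by
      rw [mem_stabilizer_iff] at hx ⊢
      rw [mul_smul, mul_smul, hx, inv_smul_smul])
    have h3 : g * (g⁻¹ * x * g) * g⁻¹ = x := by group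
    rwa [h3] at h2
  have h2 := le_stab hn h1
  have h3 : (g • t).ncard = t.ncard := Set.ncard_smul_set g t
  rw [h3] at h2
  omega

/-- the set of the first `k` points -/
def fs (n k : ℕ) : Set (Fin n) := {x | x.val < k}

theorem ncard_fs {n k : ℕ} (hk : k ≤ n) : (fs n k).ncard = k := by
  have h1 : fs n k = Set.range (Fin.castLE hk) := by
    ext x
    simp only [fs, Set.mem_ofPred_eq, Set.mem_range]
    constructor
    · intro hx
      exact ⟨⟨x.val, hx⟩, Fin.ext rfl⟩
    · rintro ⟨y, rfl⟩
      exact y.2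
  rw [h1, ← Set.image_univ, Set.ncard_image_of_injective _ (Fin.castLE_injective hk), Set.ncard_univ, Nat.card_fin]

/-- the stabilizer of the first `k` points -/
abbrev St (n k : ℕ) : Subgroup (alternatingGroup (Fin n)) := stabilizer (alternatingGroup (Fin n)) (fs n k)

theorem coatom_St {n k : ℕ} (hk : 0 < k) (hn2 : 2 * k < n) : IsCoatom (St n k) :=
  coatom_stab (by rw [ncard_fs (by omega)]; exact hk) (by rw [ncard_fs (by omega)]; exact hn2)

theorem apart_St {n k l : ℕ} (hn : 4 ≤ n) (hk : 0 < k) (hkl : k < l) (hn2 : 2 * l < n) :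
    Apart (St n k) (St n l) := by
  apply apart_stab hn
  · rw [ncard_fs (by omega)]; exact hk
  · rw [ncard_fs (by omega), ncard_fs (by omega)]; exact hkl
  · rw [ncard_fs (by omega)]; exact hn2

/-- transitive subgroups -/
def Tr {n : ℕ} (D : Subgroup (alternatingGroup (Fin n))) (a : Fin n) : Prop :=
  ∀ x : Fin n, ∃ g ∈ D, (g : Perm (Fin n)) a = x

theorem Tr.exists {n : ℕ} {D : Subgroup (alternatingGroup (Fin n))} {a : Fin n} (h : Tr D a) (x y : Fin n) :
    ∃ g ∈ D, (g : Perm (Fin n)) x = y := by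
  obtain ⟨g, hg, rfl⟩ := h x
  obtain ⟨k, hk, rfl⟩ := h y
  refine ⟨k * g⁻¹, mul_mem hk (inv_mem hg), ?_⟩
  simp

theorem apart_tr {n k : ℕ} (hk : 0 < k) (hn2 : 2 * k < n) {D : Subgroup (alternatingGroup (Fin n))} {a : Fin n}
    (h : Tr D a) : Apart (St n k) D := by
  refine apart_of_coatom (coatom_St hk hn2) fun g => ?_
  by_contra hcon
  push Not at hcon
  obtain ⟨d, hd, hdx⟩ := h.exists ((g⁻¹ : alternatingGroup (Fin n)) • (⟨0, by omega⟩ : Fin n))
    ((g⁻¹ : alternatingGroup (Fin n)) • (⟨k, by omega⟩ : Fin n))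
  have h1 := hcon d hd
  rw [mem_stabilizer_iff] at h1
  have h2 : (⟨0, by omega⟩ : Fin n) ∈ fs n k := hk
  have h3 : (g * d * g⁻¹) • (⟨0, by omega⟩ : Fin n) ∈ (g * d * g⁻¹) • fs n k := Set.smul_mem_smul_set h2
  rw [h1] at h3
  have h4 : (g * d * g⁻¹) • (⟨0, by omega⟩ : Fin n) = ⟨k, by omega⟩ := by
    rw [mul_smul, mul_smul]
    have h5 : d • (g⁻¹ : alternatingGroup (Fin n)) • (⟨0, by omega⟩ : Fin n) =
        (g⁻¹ : alternatingGroup (Fin n)) • (⟨k, by omega⟩ : Fin n) := hdx
    rw [h5, smul_inv_smul]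
  rw [h4] at h3
  exact absurd h3 (lt_irrefl k)

/-! ### primitive subgroups -/

theorem isPreprimitive_of {n : ℕ} {D K : Subgroup (alternatingGroup (Fin n))} {a : Fin n} (hle : D ≤ K)
    (htr : Tr D a) (h : ∀ x y : Fin n, x ≠ a → y ≠ a → ∃ g ∈ D, (g : Perm (Fin n)) a = a ∧ (g : Perm (Fin n)) x = y) :
    IsPreprimitive K (Fin n) := by
  have : IsPretransitive K (Fin n) := ⟨fun x y => by
    obtain ⟨g, hg, h1⟩ := htr.exists x y
    exact ⟨⟨g, hle hg⟩, h1⟩⟩
  apply IsPreprimitive.of_isTrivialBlock_base a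
  intro B ha hB
  by_cases hsub : ∃ x ∈ B, x ≠ a
  · right
    obtain ⟨x, hx, hxa⟩ := hsub
    rw [Set.eq_univ_iff_forall]
    intro y
    by_cases hya : y = a
    · rw [hya]; exact ha
    · obtain ⟨g, hg, h1, h2⟩ := h x y hxa hya
      have h3 : (⟨g, hle hg⟩ : K) • B = B := by
        apply hB.smul_eq_of_mem ha
        have h4 : (⟨g, hle hg⟩ : K) • a = a := h1
        rw [h4]
        exact ha
      rw [← h3, ← h2]
      exact Set.smul_mem_smul_set hx
  · left
    push Not at hsub
    intro x hx y hy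
    rw [hsub x hx, hsub y hy]

/-- A primitive subgroup and a three-cycle. -/
theorem eq_top_of_threeCycle {n : ℕ} {K : Subgroup (alternatingGroup (Fin n))} (hK : IsPreprimitive K (Fin n))
    {g : alternatingGroup (Fin n)} (hg : g ∈ K) (h3 : (g : Perm (Fin n)).IsThreeCycle) : K = ⊤ := by
  rw [eq_top_iff, ← Subgroup.map_subtype_le_map_subtype,
    ← MonoidHom.range_eq_map, Subgroup.range_subtype]
  apply alternatingGroup_le_of_isPreprimitive_of_isThreeCycle_mem _ h3
  · exact ⟨g, hg, rfl⟩
  · let φ := (alternatingGroup (Fin n)).subtype.subgroupMap K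
    let f : Fin n →ₑ[φ] Fin n := {
      toFun := id
      map_smul' _ _ := rfl }
    rwa [← isPreprimitive_congr (f := f) ((alternatingGroup (Fin n)).subtype.subgroupMap_surjective K)
      Function.bijective_id]

theorem isThreeCycle_conj {n : ℕ} {g k : Perm (Fin n)} (h : g.IsThreeCycle) : (k * g * k⁻¹).IsThreeCycle := by
  unfold IsThreeCycle at h ⊢
  rw [cycleType_conj]
  exact h

theorem apart_prim {n : ℕ} {D E : Subgroup (alternatingGroup (Fin n))} {a : Fin n}
    (htr : Tr D a) (h : ∀ x y : Fin n, x ≠ a → y ≠ a → ∃ g ∈ D, (g : Perm (Fin n)) a = a ∧ (g : Perm (Fin n)) x = y)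
    {c : alternatingGroup (Fin n)} (hc : c ∈ E) (h3 : (c : Perm (Fin n)).IsThreeCycle) : Apart D E := by
  intro g K h1 h2
  have h4 := h2 c hc
  refine eq_top_of_threeCycle (isPreprimitive_of h1 htr h) h4 ?_
  simpa using isThreeCycle_conj h3

/-! ### `n ≥ 11` -/

theorem alt_large {n : ℕ} (hn : 11 ≤ n) : Sep 5 (alternatingGroup (Fin n)) :=
  ⟨fun i => St n (i.val + 1), fun i => (coatom_St (by omega) (by omega)).1, fun i j hij =>
    apart_St (by omega) (by omega) (by have : i.val < j.val := hij; omega) (by omega)⟩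

/-- four stabilizers and a transitive subgroup -/
theorem sep_of_tr {n : ℕ} (hn : 9 ≤ n) {D : Subgroup (alternatingGroup (Fin n))} (hD : D ≠ ⊤) {a : Fin n}
    (htr : Tr D a) : Sep 5 (alternatingGroup (Fin n)) :=
  Sep.snoc (A := fun i : Fin 4 => St n (i.val + 1)) (fun i => (coatom_St (by omega) (by omega)).1)
    (fun i j hij => apart_St (by omega) (by omega) (by have : i.val < j.val := hij; omega) (by omega)) hD
    (fun i => apart_tr (by omega) (by omega) htr)

/-- three stabilizers and two transitive subgroups -/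
theorem sep_of_tr2 {n : ℕ} (hn : 7 ≤ n) {D E : Subgroup (alternatingGroup (Fin n))} (hD : D ≠ ⊤) (hE : E ≠ ⊤) {a : Fin n}
    (htD : Tr D a) (htE : Tr E a) (hDE : Apart D E) : Sep 5 (alternatingGroup (Fin n)) := by
  refine sep_five (A := St n 1) (B := St n 2) (C := St n 3) (D := D) (E := E) (coatom_St (by omega) (by omega)).1
    (coatom_St (by omega) (by omega)).1 (coatom_St (by omega) (by omega)).1 hD hE
    (apart_St (by omega) (by omega) (by omega) (by omega)) (apart_St (by omega) (by omega) (by omega) (by omega))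
    (apart_tr (by omega) (by omega) htD) (apart_tr (by omega) (by omega) htE)
    (apart_St (by omega) (by omega) (by omega) (by omega)) (apart_tr (by omega) (by omega) htD)
    (apart_tr (by omega) (by omega) htE) (apart_tr (by omega) (by omega) htD) (apart_tr (by omega) (by omega) htE) hDE

/-! ### subgroups given by relations -/

theorem app_inv {n : ℕ} (g : Perm (Fin n)) (i : Fin n) : g (g⁻¹ i) = i := g.apply_symm_apply i

theorem inv_app {n : ℕ} (g : Perm (Fin n)) (i : Fin n) : g⁻¹ (g i) = i := g.symm_apply_apply i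

def stab2 {n : ℕ} (f : Fin n → Fin n → Bool) : Subgroup (alternatingGroup (Fin n)) where
  carrier := {g | ∀ i j, f ((g : Perm (Fin n)) i) ((g : Perm (Fin n)) j) = f i j}
  one_mem' := fun i j => rfl
  mul_mem' := by
    intro g h hg hh i j
    have h1 := hg ((h : Perm (Fin n)) i) ((h : Perm (Fin n)) j)
    exact h1.trans (hh i j)
  inv_mem' := by
    intro g hg i j
    have h1 := hg ((g : Perm (Fin n))⁻¹ i) ((g : Perm (Fin n))⁻¹ j)
    simp only [app_inv] at h1
    exact h1.symm

def stab3 {n : ℕ} (f : Fin n → Fin n → Fin n → Bool) : Subgroup (alternatingGroup (Fin n)) where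
  carrier := {g | ∀ i j k, f ((g : Perm (Fin n)) i) ((g : Perm (Fin n)) j) ((g : Perm (Fin n)) k) = f i j k}
  one_mem' := fun i j k => rfl
  mul_mem' := by
    intro g h hg hh i j k
    have h1 := hg ((h : Perm (Fin n)) i) ((h : Perm (Fin n)) j) ((h : Perm (Fin n)) k)
    exact h1.trans (hh i j k)
  inv_mem' := by
    intro g hg i j k
    have h1 := hg ((g : Perm (Fin n))⁻¹ i) ((g : Perm (Fin n))⁻¹ j) ((g : Perm (Fin n))⁻¹ k)
    simp only [app_inv] at h1
    exact h1.symm

/-- automorphisms of a binary operation -/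
def aut2 {n : ℕ} (f : Fin n → Fin n → Fin n) : Subgroup (alternatingGroup (Fin n)) where
  carrier := {g | ∀ i j, f ((g : Perm (Fin n)) i) ((g : Perm (Fin n)) j) = (g : Perm (Fin n)) (f i j)}
  one_mem' := fun i j => rfl
  mul_mem' := by
    intro g h hg hh i j
    have h1 := hg ((h : Perm (Fin n)) i) ((h : Perm (Fin n)) j)
    rw [hh i j] at h1
    exact h1
  inv_mem' := by
    intro g hg i j
    have h1 := hg ((g : Perm (Fin n))⁻¹ i) ((g : Perm (Fin n))⁻¹ j)
    simp only [app_inv] at h1
    show _ = (g : Perm (Fin n))⁻¹ (f i j)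
    rw [h1, inv_app]
    rfl

/-- affine automorphisms of a ternary operation -/
def aut3 {n : ℕ} (f : Fin n → Fin n → Fin n → Fin n) : Subgroup (alternatingGroup (Fin n)) where
  carrier := {g | ∀ i j k, f ((g : Perm (Fin n)) i) ((g : Perm (Fin n)) j) ((g : Perm (Fin n)) k) =
    (g : Perm (Fin n)) (f i j k)}
  one_mem' := fun i j k => rfl
  mul_mem' := by
    intro g h hg hh i j k
    have h1 := hg ((h : Perm (Fin n)) i) ((h : Perm (Fin n)) j) ((h : Perm (Fin n)) k)
    rw [hh i j k] at h1
    exact h1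
  inv_mem' := by
    intro g hg i j k
    have h1 := hg ((g : Perm (Fin n))⁻¹ i) ((g : Perm (Fin n))⁻¹ j) ((g : Perm (Fin n))⁻¹ k)
    simp only [app_inv] at h1
    show _ = (g : Perm (Fin n))⁻¹ (f i j k)
    rw [h1, inv_app]
    rfl

/-- a permutation with its inverse -/
def pm {n : ℕ} (f g : Fin n → Fin n) (h1 : ∀ x, g (f x) = x) (h2 : ∀ x, f (g x) = x) : Perm (Fin n) := ⟨f, g, h1, h2⟩

end Cfsg.Agent.H761.AltSep
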