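import Mathlib
import Cfsg.Agent.H761.AltSep

/-!
# Five pairwise apart subgroups of the alternating groups of degree 6, 7, 8, 9, 10 (helper761)

`alt : 6 ≤ n → Sep 5 (alternatingGroup (Fin n))`.
-/

set_option autoImplicit false
set_option maxRecDepth 100000

namespace Cfsg.Agent.H761.AltSep

open Cfsg.Agent.H940.MaxCls MulAction Equiv Equiv.Perm
open scoped Pointwise

theorem card_eq {n : ℕ} (D : Subgroup (alternatingGroup (Fin n))) (P : Perm (Fin n) → Prop) [DecidablePred P]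
    (h : ∀ g : alternatingGroup (Fin n), g ∈ D ↔ P g) :
    Nat.card D = (Finset.univ.filter fun g : Perm (Fin n) => P g ∧ sign g = 1).card := by
  rw [← Fintype.card_subtype, ← Nat.card_eq_fintype_card]
  exact Nat.card_congr
    { toFun := fun g => ⟨((g : alternatingGroup (Fin n)) : Perm (Fin n)), (h _).1 g.2, mem_alternatingGroup.1 g.1.2⟩
      invFun := fun g => ⟨⟨g.1, mem_alternatingGroup.2 g.2.2⟩, (h _).2 g.2.1⟩
      left_inv := fun g => rfl
      right_inv := fun g => rfl }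

theorem card_alt {n k : ℕ} (hn : 2 ≤ n) (hk : n.factorial = 2 * k) : Nat.card (alternatingGroup (Fin n)) = k := by
  have : Nontrivial (Fin n) := Fin.nontrivial_iff_two_le.2 hn
  have h1 := two_mul_nat_card_alternatingGroup (α := Fin n)
  rw [Nat.card_perm, Nat.card_fin] at h1
  omega

theorem simple_alt {n : ℕ} (hn : 5 ≤ n) : IsSimpleGroup (alternatingGroup (Fin n)) :=
  alternatingGroup.isSimpleGroup (by rwa [Nat.card_fin])

/-- powers of two permutations move `a` everywhere -/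
theorem tr_of {n : ℕ} {D : Subgroup (alternatingGroup (Fin n))} {a : Fin n} {u v : alternatingGroup (Fin n)}
    (hu : u ∈ D) (hv : v ∈ D) {k l : ℕ}
    (h : ∀ x : Fin n, ∃ i : Fin k, ∃ j : Fin l, ((u : Perm (Fin n)) ^ i.val * (v : Perm (Fin n)) ^ j.val) a = x) : Tr D a := by
  intro x
  obtain ⟨i, j, hij⟩ := h x
  exact ⟨u ^ i.val * v ^ j.val, mul_mem (pow_mem hu _) (pow_mem hv _), by simpa using hij⟩

theorem ne_top_of_notMem {G : Type*} [Group G] {D : Subgroup G} {g : G} (h : g ∉ D) : D ≠ ⊤ := by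
  rintro rfl
  exact h (Subgroup.mem_top g)

/-! ### `n = 9` -/

def r9 (i j : Fin 9) : Bool := decide (j = i + 1)

def u9 : alternatingGroup (Fin 9) :=
  ⟨pm ![1, 2, 3, 4, 5, 6, 7, 8, 0] ![8, 0, 1, 2, 3, 4, 5, 6, 7] (by decide) (by decide), by
    rw [mem_alternatingGroup]; decide +kernel⟩

def c9 : alternatingGroup (Fin 9) :=
  ⟨pm ![1, 2, 0, 3, 4, 5, 6, 7, 8] ![2, 0, 1, 3, 4, 5, 6, 7, 8] (by decide) (by decide), by
    rw [mem_alternatingGroup]; decide +kernel⟩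

theorem u9_mem : u9 ∈ stab2 r9 := by
  show ∀ i j, r9 ((u9 : Perm (Fin 9)) i) ((u9 : Perm (Fin 9)) j) = r9 i j
  decide +kernel

theorem c9_notMem : c9 ∉ stab2 r9 := by
  show ¬ ∀ i j, r9 ((c9 : Perm (Fin 9)) i) ((c9 : Perm (Fin 9)) j) = r9 i j
  decide +kernel

theorem alt_nine : Sep 5 (alternatingGroup (Fin 9)) :=
  sep_of_tr (by norm_num) (ne_top_of_notMem c9_notMem) (a := 0)
    (tr_of u9_mem u9_mem (k := 9) (l := 1) (by decide +kernel))

/-! ### `n = 10` -/

def r10 (i j : Fin 10) : Bool := decide (i.val / 2 = j.val / 2)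

def u10 : alternatingGroup (Fin 10) :=
  ⟨pm ![2, 3, 4, 5, 6, 7, 8, 9, 0, 1] ![8, 9, 0, 1, 2, 3, 4, 5, 6, 7] (by decide) (by decide), by
    rw [mem_alternatingGroup]; decide +kernel⟩

def v10 : alternatingGroup (Fin 10) :=
  ⟨pm ![1, 0, 3, 2, 4, 5, 6, 7, 8, 9] ![1, 0, 3, 2, 4, 5, 6, 7, 8, 9] (by decide) (by decide), by
    rw [mem_alternatingGroup]; decide +kernel⟩

def c10 : alternatingGroup (Fin 10) :=
  ⟨pm ![1, 2, 0, 3, 4, 5, 6, 7, 8, 9] ![2, 0, 1, 3, 4, 5, 6, 7, 8, 9] (by decide) (by decide), by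
    rw [mem_alternatingGroup]; decide +kernel⟩

theorem u10_mem : u10 ∈ stab2 r10 := by
  show ∀ i j, r10 ((u10 : Perm (Fin 10)) i) ((u10 : Perm (Fin 10)) j) = r10 i j
  decide +kernel

theorem v10_mem : v10 ∈ stab2 r10 := by
  show ∀ i j, r10 ((v10 : Perm (Fin 10)) i) ((v10 : Perm (Fin 10)) j) = r10 i j
  decide +kernel

theorem c10_notMem : c10 ∉ stab2 r10 := by
  show ¬ ∀ i j, r10 ((c10 : Perm (Fin 10)) i) ((c10 : Perm (Fin 10)) j) = r10 i j
  decide +kernel

theorem alt_ten : Sep 5 (alternatingGroup (Fin 10)) :=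
  sep_of_tr (by norm_num) (ne_top_of_notMem c10_notMem) (a := 0)
    (tr_of u10_mem v10_mem (k := 5) (l := 2) (by decide +kernel))

/-! ### `n = 8` -/

def x8 (i j k : Fin 8) : Fin 8 := Fin.ofNat 8 (i.val ^^^ j.val ^^^ k.val)

def t8 (c : Fin 8) : alternatingGroup (Fin 8) :=
  ⟨pm (fun x => Fin.ofNat 8 (x.val ^^^ c.val)) (fun x => Fin.ofNat 8 (x.val ^^^ c.val))
    (by revert c; decide +kernel) (by revert c; decide +kernel), by
    rw [mem_alternatingGroup]; revert c; decide +kernel⟩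

def g8 : alternatingGroup (Fin 8) :=
  ⟨pm ![0, 2, 4, 6, 3, 1, 7, 5] ![0, 5, 1, 4, 2, 7, 3, 6] (by decide) (by decide), by
    rw [mem_alternatingGroup]; decide +kernel⟩

theorem t8_mem (c : Fin 8) : t8 c ∈ aut3 x8 := by
  show ∀ i j k, x8 ((t8 c : Perm (Fin 8)) i) ((t8 c : Perm (Fin 8)) j) ((t8 c : Perm (Fin 8)) k) =
    (t8 c : Perm (Fin 8)) (x8 i j k)
  revert c
  decide +kernel

theorem g8_mem : g8 ∈ aut3 x8 := by
  show ∀ i j k, x8 ((g8 : Perm (Fin 8)) i) ((g8 : Perm (Fin 8)) j) ((g8 : Perm (Fin 8)) k) =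
    (g8 : Perm (Fin 8)) (x8 i j k)
  decide +kernel

def c8 : alternatingGroup (Fin 8) :=
  ⟨pm ![1, 2, 0, 3, 4, 5, 6, 7] ![2, 0, 1, 3, 4, 5, 6, 7] (by decide) (by decide), by
    rw [mem_alternatingGroup]; decide +kernel⟩

theorem c8_notMem : c8 ∉ aut3 x8 := by
  show ¬ ∀ i j k, x8 ((c8 : Perm (Fin 8)) i) ((c8 : Perm (Fin 8)) j) ((c8 : Perm (Fin 8)) k) =
    (c8 : Perm (Fin 8)) (x8 i j k)
  decide +kernel

theorem c8_three : (c8 : Perm (Fin 8)).IsThreeCycle := by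
  have h1 : (c8 : Perm (Fin 8)) = swap 0 2 * swap 0 1 := by decide +kernel
  rw [h1]
  exact isThreeCycle_swap_mul_swap_same (by decide) (by decide) (by decide)

def r8 (i j : Fin 8) : Bool := decide (i.val / 4 = j.val / 4)

def h8 : alternatingGroup (Fin 8) :=
  ⟨pm ![1, 2, 3, 0, 5, 6, 7, 4] ![3, 0, 1, 2, 7, 4, 5, 6] (by decide) (by decide), by
    rw [mem_alternatingGroup]; decide +kernel⟩

def s8 : alternatingGroup (Fin 8) :=
  ⟨pm ![4, 5, 6, 7, 0, 1, 2, 3] ![4, 5, 6, 7, 0, 1, 2, 3] (by decide) (by decide), by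
    rw [mem_alternatingGroup]; decide +kernel⟩

def d8 : alternatingGroup (Fin 8) :=
  ⟨pm ![4, 0, 2, 3, 1, 5, 6, 7] ![1, 4, 2, 3, 0, 5, 6, 7] (by decide) (by decide), by
    rw [mem_alternatingGroup]; decide +kernel⟩

theorem h8_mem : h8 ∈ stab2 r8 := by
  show ∀ i j, r8 ((h8 : Perm (Fin 8)) i) ((h8 : Perm (Fin 8)) j) = r8 i j
  decide +kernel

theorem s8_mem : s8 ∈ stab2 r8 := by
  show ∀ i j, r8 ((s8 : Perm (Fin 8)) i) ((s8 : Perm (Fin 8)) j) = r8 i j
  decide +kernel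

theorem c8_mem : c8 ∈ stab2 r8 := by
  show ∀ i j, r8 ((c8 : Perm (Fin 8)) i) ((c8 : Perm (Fin 8)) j) = r8 i j
  decide +kernel

theorem d8_notMem : d8 ∉ stab2 r8 := by
  show ¬ ∀ i j, r8 ((d8 : Perm (Fin 8)) i) ((d8 : Perm (Fin 8)) j) = r8 i j
  decide +kernel

theorem tr8 : Tr (aut3 x8) 0 := fun x => ⟨t8 x, t8_mem x, by revert x; decide +kernel⟩

theorem pt8 : ∀ x y : Fin 8, x ≠ 0 → y ≠ 0 → ∃ g ∈ aut3 x8, (g : Perm (Fin 8)) 0 = 0 ∧ (g : Perm (Fin 8)) x = y := by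
  intro x y hx hy
  have h1 : ∀ x y : Fin 8, x ≠ 0 → y ≠ 0 → ∃ k : Fin 7, ((g8 : Perm (Fin 8)) ^ k.val) 0 = 0 ∧
      ((g8 : Perm (Fin 8)) ^ k.val) x = y := by decide +kernel
  obtain ⟨k, hk1, hk2⟩ := h1 x y hx hy
  exact ⟨g8 ^ k.val, pow_mem g8_mem _, by simpa using hk1, by simpa using hk2⟩

theorem alt_eight : Sep 5 (alternatingGroup (Fin 8)) :=
  sep_of_tr2 (by norm_num) (ne_top_of_notMem c8_notMem) (ne_top_of_notMem d8_notMem) tr8
    (tr_of h8_mem s8_mem (k := 4) (l := 2) (by decide +kernel)) (apart_prim tr8 pt8 c8_mem c8_three)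

/-! ### `n = 7` -/

def third (i j : Fin 7) : Fin 7 :=
  match (j.val + 7 - i.val) % 7 with
  | 1 => i + 3
  | 2 => i + 6
  | 3 => i + 1
  | 4 => i + 5
  | 5 => i + 4
  | 6 => i + 2
  | _ => i

def a7 : alternatingGroup (Fin 7) :=
  ⟨pm ![1, 2, 3, 4, 5, 6, 0] ![6, 0, 1, 2, 3, 4, 5] (by decide) (by decide), by
    rw [mem_alternatingGroup]; decide +kernel⟩

def b7 : alternatingGroup (Fin 7) :=
  ⟨pm ![0, 1, 6, 3, 5, 4, 2] ![0, 1, 6, 3, 5, 4, 2] (by decide) (by decide), by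
    rw [mem_alternatingGroup]; decide +kernel⟩

theorem a7_mem : a7 ∈ aut2 third := by
  show ∀ i j, third ((a7 : Perm (Fin 7)) i) ((a7 : Perm (Fin 7)) j) = (a7 : Perm (Fin 7)) (third i j)
  decide +kernel

theorem b7_mem : b7 ∈ aut2 third := by
  show ∀ i j, third ((b7 : Perm (Fin 7)) i) ((b7 : Perm (Fin 7)) j) = (b7 : Perm (Fin 7)) (third i j)
  decide +kernel

/-- extension of a permutation of six letters by the fixed point `0` -/
def ext7 (e : Perm (Fin 6)) : Perm (Fin 7) where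
  toFun := Fin.cases 0 fun i => (e i).succ
  invFun := Fin.cases 0 fun i => (e.symm i).succ
  left_inv := by
    intro x
    refine Fin.cases ?_ (fun i => ?_) x <;> simp
  right_inv := by
    intro x
    refine Fin.cases ?_ (fun i => ?_) x <;> simp

theorem ext7_inj : Function.Injective ext7 := by
  intro e f h
  ext1 i
  have h1 := congrArg (fun g : Perm (Fin 7) => g i.succ) h
  exact Fin.succ_injective _ h1

theorem exists_ext7 (t : Perm (Fin 7)) (h : t 0 = 0) : ∃ e, ext7 e = t := by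
  have h1 : ∀ i : Fin 6, t i.succ ≠ 0 := fun i hi =>
    Fin.succ_ne_zero i (t.injective (hi.trans h.symm))
  have h2 : ∀ i : Fin 6, t.symm i.succ ≠ 0 := fun i hi => by
    have h3 := congrArg t hi
    rw [Equiv.apply_symm_apply, h] at h3
    exact Fin.succ_ne_zero i h3
  refine ⟨⟨fun i => (t i.succ).pred (h1 i), fun i => (t.symm i.succ).pred (h2 i), fun i => ?_, fun i => ?_⟩, ?_⟩
  · simp
  · simp
  · ext1 x
    refine Fin.cases ?_ (fun i => ?_) x
    · exact h.symm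
    · show ((t i.succ).pred (h1 i)).succ = t i.succ
      exact Fin.succ_pred _ _

theorem card24_aux : (Finset.univ.filter fun e : Perm (Fin 6) =>
    (∀ i j : Fin 7, third (ext7 e i) (ext7 e j) = ext7 e (third i j)) ∧ sign (ext7 e) = 1).card = 24 := by
  decide +kernel

theorem card24 : (Finset.univ.filter fun g : Perm (Fin 7) =>
    (g 0 = 0 ∧ ∀ i j : Fin 7, third (g i) (g j) = g (third i j)) ∧ sign g = 1).card = 24 := by
  rw [← card24_aux, ← Finset.card_map ⟨ext7, ext7_inj⟩]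
  congr 1
  ext g
  rw [Finset.mem_map, Finset.mem_filter]
  constructor
  · rintro ⟨-, ⟨h1, h2⟩, h3⟩
    obtain ⟨e, rfl⟩ := exists_ext7 g h1
    exact ⟨e, Finset.mem_filter.2 ⟨Finset.mem_univ _, h2, h3⟩, rfl⟩
  · rintro ⟨e, he, rfl⟩
    rw [Finset.mem_filter] at he
    exact ⟨Finset.mem_univ _, ⟨rfl, he.2.1⟩, he.2.2⟩

theorem chk7_aux : ∀ e : Perm (Fin 6),
    (∀ i j : Fin 7, third (ext7 e ((a7 : Perm (Fin 7)) ((ext7 e)⁻¹ i))) (ext7 e ((a7 : Perm (Fin 7)) ((ext7 e)⁻¹ j))) =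
      ext7 e ((a7 : Perm (Fin 7)) ((ext7 e)⁻¹ (third i j)))) →
    (∀ i j : Fin 7, third (ext7 e ((b7 : Perm (Fin 7)) ((ext7 e)⁻¹ i))) (ext7 e ((b7 : Perm (Fin 7)) ((ext7 e)⁻¹ j))) =
      ext7 e ((b7 : Perm (Fin 7)) ((ext7 e)⁻¹ (third i j)))) → sign (ext7 e) = 1 := by
  decide +kernel

theorem chk7 : ∀ t : Perm (Fin 7), t 0 = 0 →
    (∀ i j : Fin 7, third (t ((a7 : Perm (Fin 7)) (t⁻¹ i))) (t ((a7 : Perm (Fin 7)) (t⁻¹ j))) =
      t ((a7 : Perm (Fin 7)) (t⁻¹ (third i j)))) →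
    (∀ i j : Fin 7, third (t ((b7 : Perm (Fin 7)) (t⁻¹ i))) (t ((b7 : Perm (Fin 7)) (t⁻¹ j))) =
      t ((b7 : Perm (Fin 7)) (t⁻¹ (third i j)))) → sign t = 1 := by
  intro t h0 h1 h2
  obtain ⟨e, rfl⟩ := exists_ext7 t h0
  exact chk7_aux e h1 h2

/-- automorphisms fixing the point `0` -/
def aut2z {n : ℕ} (f : Fin n → Fin n → Fin n) (a : Fin n) : Subgroup (alternatingGroup (Fin n)) where
  carrier := {g | (g : Perm (Fin n)) a = a ∧ ∀ i j, f ((g : Perm (Fin n)) i) ((g : Perm (Fin n)) j) =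
    (g : Perm (Fin n)) (f i j)}
  one_mem' := ⟨rfl, fun i j => rfl⟩
  mul_mem' := by
    intro g h hg hh
    refine ⟨?_, (aut2 f).mul_mem hg.2 hh.2⟩
    show (g : Perm (Fin n)) ((h : Perm (Fin n)) a) = a
    rw [hh.1, hg.1]
  inv_mem' := by
    intro g hg
    refine ⟨?_, (aut2 f).inv_mem hg.2⟩
    have h1 := inv_app (g : Perm (Fin n)) a
    rw [hg.1] at h1
    exact h1

theorem dvd168 : 168 ∣ Nat.card (aut2 third) := by
  have h1 : Nat.card (aut2z third 0) = 24 :=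
    (card_eq (aut2z third 0) (fun g => g 0 = 0 ∧ ∀ i j : Fin 7, third (g i) (g j) = g (third i j))
      (fun g => Iff.rfl)).trans card24
  have h2 : 24 ∣ Nat.card (aut2 third) := by
    rw [← h1]
    exact Subgroup.card_dvd_of_le fun g hg => hg.2
  have h3 : 7 ∣ Nat.card (aut2 third) := by
    have h4 : orderOf a7 = 7 := by
      have : Fact (Nat.Prime 7) := ⟨by norm_num⟩
      apply orderOf_eq_prime
      · apply Subtype.ext
        decide +kernel
      · intro h5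
        have h6 := congrArg (fun g : alternatingGroup (Fin 7) => (g : Perm (Fin 7)) 0) h5
        exact absurd h6 (by decide +kernel)
    have h8 := Subgroup.orderOf_dvd_natCard _ a7_mem
    rwa [h4] at h8
  have h5 : Nat.Coprime 24 7 := by norm_num
  exact h5.mul_dvd_of_dvd_of_dvd h2 h3

def s7 : Perm (Fin 7) := swap 0 1

theorem s7_sign : sign s7 = -1 := sign_swap (by decide)

/-- the transported operation -/
def third' (i j : Fin 7) : Fin 7 := s7 (third (s7⁻¹ i) (s7⁻¹ j))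

theorem conj_mem_alt (τ : Perm (Fin 7)) (g : alternatingGroup (Fin 7)) : τ * g * τ⁻¹ ∈ alternatingGroup (Fin 7) := by
  have := (alternatingGroup (Fin 7)).normal_of_characteristic
  exact (inferInstance : (alternatingGroup (Fin 7)).Normal).conj_mem g g.2 τ

theorem s7_conj {g : alternatingGroup (Fin 7)} (hg : g ∈ aut2 third) : (⟨s7 * g * s7⁻¹, conj_mem_alt s7 g⟩ :
    alternatingGroup (Fin 7)) ∈ aut2 third' := by
  intro i j
  have h1 := hg (s7⁻¹ i) (s7⁻¹ j)
  show s7 (third (s7⁻¹ (s7 ((g : Perm (Fin 7)) (s7⁻¹ i)))) (s7⁻¹ (s7 ((g : Perm (Fin 7)) (s7⁻¹ j))))) =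
    s7 ((g : Perm (Fin 7)) (s7⁻¹ (s7 (third (s7⁻¹ i) (s7⁻¹ j)))))
  rw [inv_app, inv_app, inv_app, h1]

theorem apart7 : Apart (aut2 third) (aut2 third') := by
  have hs := simple_alt (n := 7) (by norm_num)
  have hA : Nat.card (alternatingGroup (Fin 7)) = 2520 := card_alt (by norm_num) (by decide)
  intro g K h1 h2
  by_contra hK
  have h3 := card_dvd_factorial hK
  have h4 := Subgroup.card_mul_index K
  have h5 : 168 ∣ Nat.card K := dvd168.trans (Subgroup.card_dvd_of_le h1)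
  obtain ⟨m, hm⟩ := h5
  rw [hA] at h3 h4
  rw [hm] at h4
  have h6 : m * K.index = 15 := by nlinarith
  have h7 : K.index ∣ 15 := Dvd.intro_left m h6
  have h8 : K.index ∈ Nat.divisors 15 := by rw [Nat.mem_divisors]; exact ⟨h7, by norm_num⟩
  have h9 : Nat.divisors 15 = {1, 3, 5, 15} := by decide +kernel
  rw [h9] at h8
  simp only [Finset.mem_insert, Finset.mem_singleton] at h8
  have h10 : K.index = 15 := by
    rcases h8 with h | h | h | h
    · rw [h] at h3; exact absurd h3 (by decide +kernel)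
    · rw [h] at h3; exact absurd h3 (by decide +kernel)
    · rw [h] at h3; exact absurd h3 (by decide +kernel)
    · exact h
  have h11 : m = 1 := by rw [h10] at h6; omega
  have h12 : aut2 third = K := by
    apply Subgroup.eq_of_le_of_card_ge h1
    rw [hm, h11, mul_one]
    exact Nat.le_of_dvd Nat.card_pos dvd168
  rw [← h12] at h2
  -- `ρ = g * s7` normalises; correct it by a power of `a7`
  obtain ⟨k, hk⟩ : ∃ k : Fin 7, ((a7 : Perm (Fin 7)) ^ k.val) (((g : Perm (Fin 7)) * s7) 0) = 0 := by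
    have : ∀ x : Fin 7, ∃ k : Fin 7, ((a7 : Perm (Fin 7)) ^ k.val) x = 0 := by decide +kernel
    exact this _
  set t : Perm (Fin 7) := (a7 : Perm (Fin 7)) ^ k.val * ((g : Perm (Fin 7)) * s7) with ht
  have ht0 : t 0 = 0 := hk
  have hsgn : sign t = -1 := by
    rw [ht, map_mul, map_mul, map_pow, s7_sign, mem_alternatingGroup.1 a7.2, mem_alternatingGroup.1 g.2]
    simp
  have key : ∀ x : alternatingGroup (Fin 7), x ∈ aut2 third →
      ∀ i j : Fin 7, third (t ((x : Perm (Fin 7)) (t⁻¹ i))) (t ((x : Perm (Fin 7)) (t⁻¹ j))) =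
        t ((x : Perm (Fin 7)) (t⁻¹ (third i j))) := by
    intro x hx i j
    have h13 := h2 _ (s7_conj hx)
    have h14 := mul_mem (mul_mem (pow_mem a7_mem k.val) h13) (inv_mem (pow_mem a7_mem k.val))
    exact h14 i j
  have h15 := chk7 t ht0 (key a7 a7_mem) (key b7 b7_mem)
  rw [hsgn] at h15
  exact absurd h15 (by decide)

def c7 : alternatingGroup (Fin 7) :=
  ⟨pm ![1, 2, 0, 3, 4, 5, 6] ![2, 0, 1, 3, 4, 5, 6] (by decide) (by decide), by
    rw [mem_alternatingGroup]; decide +kernel⟩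

theorem c7_notMem : c7 ∉ aut2 third := by
  show ¬ ∀ i j, third ((c7 : Perm (Fin 7)) i) ((c7 : Perm (Fin 7)) j) = (c7 : Perm (Fin 7)) (third i j)
  decide +kernel

theorem c7_notMem' : c7 ∉ aut2 third' := by
  show ¬ ∀ i j, third' ((c7 : Perm (Fin 7)) i) ((c7 : Perm (Fin 7)) j) = (c7 : Perm (Fin 7)) (third' i j)
  decide +kernel

theorem alt_seven : Sep 5 (alternatingGroup (Fin 7)) :=
  sep_of_tr2 (by norm_num) (ne_top_of_notMem c7_notMem) (ne_top_of_notMem c7_notMem') (a := 0)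
    (tr_of a7_mem a7_mem (k := 7) (l := 1) (by decide +kernel))
    (tr_of (s7_conj a7_mem) (s7_conj a7_mem) (k := 7) (l := 1) (by decide +kernel)) apart7

/-! ### `n = 6` -/

/-- the design of `PSL(2,5)` -/
def d6 (i j k : Fin 6) : Bool :=
  [[0, 1, 3], [0, 1, 5], [0, 2, 3], [0, 2, 4], [0, 4, 5], [1, 2, 4], [1, 2, 5], [1, 3, 4], [2, 3, 5], [3, 4, 5]].any
    fun l => l.contains i.val && l.contains j.val && l.contains k.val && !(i == j) && !(j == k) && !(i == k)

def t6 : alternatingGroup (Fin 6) :=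
  ⟨pm ![1, 2, 3, 4, 0, 5] ![4, 0, 1, 2, 3, 5] (by decide) (by decide), by
    rw [mem_alternatingGroup]; decide +kernel⟩

def i6 : alternatingGroup (Fin 6) :=
  ⟨pm ![5, 4, 2, 3, 1, 0] ![5, 4, 2, 3, 1, 0] (by decide) (by decide), by
    rw [mem_alternatingGroup]; decide +kernel⟩

def c6 : alternatingGroup (Fin 6) :=
  ⟨pm ![1, 2, 0, 3, 4, 5] ![2, 0, 1, 3, 4, 5] (by decide) (by decide), by
    rw [mem_alternatingGroup]; decide +kernel⟩

def e6 : alternatingGroup (Fin 6) :=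
  ⟨pm ![3, 4, 5, 1, 0, 2] ![4, 3, 5, 0, 1, 2] (by decide) (by decide), by
    rw [mem_alternatingGroup]; decide +kernel⟩

def f6 : alternatingGroup (Fin 6) :=
  ⟨pm ![2, 3, 4, 5, 0, 1] ![4, 5, 0, 1, 2, 3] (by decide) (by decide), by
    rw [mem_alternatingGroup]; decide +kernel⟩

def g6 : alternatingGroup (Fin 6) :=
  ⟨pm ![1, 0, 3, 2, 4, 5] ![1, 0, 3, 2, 4, 5] (by decide) (by decide), by
    rw [mem_alternatingGroup]; decide +kernel⟩

def h6 : alternatingGroup (Fin 6) :=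
  ⟨pm ![3, 0, 2, 1, 4, 5] ![1, 3, 2, 0, 4, 5] (by decide) (by decide), by
    rw [mem_alternatingGroup]; decide +kernel⟩

def w6 : alternatingGroup (Fin 6) :=
  ⟨pm ![1, 2, 0, 4, 5, 3] ![2, 0, 1, 5, 3, 4] (by decide) (by decide), by
    rw [mem_alternatingGroup]; decide +kernel⟩

/-- three blocks of size two -/
def p6 (i j : Fin 6) : Bool := decide (i.val / 2 = j.val / 2)

/-- two blocks of size three -/
def q6 (i j : Fin 6) : Bool := decide (i.val / 3 = j.val / 3)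

theorem t6_mem : t6 ∈ stab3 d6 := by
  show ∀ i j k, d6 ((t6 : Perm (Fin 6)) i) ((t6 : Perm (Fin 6)) j) ((t6 : Perm (Fin 6)) k) = d6 i j k
  decide +kernel

theorem i6_mem : i6 ∈ stab3 d6 := by
  show ∀ i j k, d6 ((i6 : Perm (Fin 6)) i) ((i6 : Perm (Fin 6)) j) ((i6 : Perm (Fin 6)) k) = d6 i j k
  decide +kernel

theorem c6_notMem : c6 ∉ stab3 d6 := by
  show ¬ ∀ i j k, d6 ((c6 : Perm (Fin 6)) i) ((c6 : Perm (Fin 6)) j) ((c6 : Perm (Fin 6)) k) = d6 i j k
  decide +kernel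

theorem c6_notMem' : c6 ∉ stab2 p6 := by
  show ¬ ∀ i j, p6 ((c6 : Perm (Fin 6)) i) ((c6 : Perm (Fin 6)) j) = p6 i j
  decide +kernel

theorem c6_mem : c6 ∈ stab2 q6 := by
  show ∀ i j, q6 ((c6 : Perm (Fin 6)) i) ((c6 : Perm (Fin 6)) j) = q6 i j
  decide +kernel

theorem e6_mem : e6 ∈ stab2 q6 := by
  show ∀ i j, q6 ((e6 : Perm (Fin 6)) i) ((e6 : Perm (Fin 6)) j) = q6 i j
  decide +kernel

theorem w6_mem : w6 ∈ stab2 q6 := by
  show ∀ i j, q6 ((w6 : Perm (Fin 6)) i) ((w6 : Perm (Fin 6)) j) = q6 i j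
  decide +kernel

theorem h6_notMem : h6 ∉ stab2 q6 := by
  show ¬ ∀ i j, q6 ((h6 : Perm (Fin 6)) i) ((h6 : Perm (Fin 6)) j) = q6 i j
  decide +kernel

theorem f6_mem : f6 ∈ stab2 p6 := by
  show ∀ i j, p6 ((f6 : Perm (Fin 6)) i) ((f6 : Perm (Fin 6)) j) = p6 i j
  decide +kernel

theorem g6_mem : g6 ∈ stab2 p6 := by
  show ∀ i j, p6 ((g6 : Perm (Fin 6)) i) ((g6 : Perm (Fin 6)) j) = p6 i j
  decide +kernel

/-- `d6` as a table -/
def d6t (i j k : Fin 6) : Bool :=
  Nat.testBit 239497057811142472159277738142540855495894032491646487421880832 (36 * i.val + 6 * j.val + k.val)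

theorem d6_eq : ∀ i j k, d6 i j k = d6t i j k := by decide +kernel

theorem card_d6_aux : (Finset.univ.filter fun g : Perm (Fin 6) =>
    (∀ i j k : Fin 6, d6t (g i) (g j) (g k) = d6t i j k) ∧ sign g = 1).card = 60 := by decide +kernel

theorem card_d6 : Nat.card (stab3 d6) = 60 :=
  (card_eq (stab3 d6) (fun g => ∀ i j k : Fin 6, d6t (g i) (g j) (g k) = d6t i j k) (fun g => by
    constructor
    · intro h i j k
      have h1 := h i j k
      rwa [d6_eq, d6_eq] at h1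
    · intro h i j k
      have h1 := h i j k
      rwa [← d6_eq, ← d6_eq] at h1)).trans card_d6_aux

theorem card_p6 : Nat.card (stab2 p6) = 24 :=
  (card_eq (stab2 p6) (fun g => ∀ i j : Fin 6, p6 (g i) (g j) = p6 i j) (fun g => Iff.rfl)).trans
    (by decide +kernel)

theorem card_q6 : Nat.card (stab2 q6) = 36 :=
  (card_eq (stab2 q6) (fun g => ∀ i j : Fin 6, q6 (g i) (g j) = q6 i j) (fun g => Iff.rfl)).trans
    (by decide +kernel)

theorem c6_three : (c6 : Perm (Fin 6)).IsThreeCycle := by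
  have h1 : (c6 : Perm (Fin 6)) = swap 0 2 * swap 0 1 := by decide +kernel
  rw [h1]
  exact isThreeCycle_swap_mul_swap_same (by decide) (by decide) (by decide)

theorem tr_d6 : Tr (stab3 d6) 5 := tr_of t6_mem i6_mem (k := 5) (l := 2) (by decide +kernel)

theorem tr_p6 : Tr (stab2 p6) 0 := tr_of f6_mem g6_mem (k := 3) (l := 2) (by decide +kernel)

theorem tr_q6 : Tr (stab2 q6) 0 := tr_of w6_mem e6_mem (k := 3) (l := 4) (by decide +kernel)

theorem pt6 : ∀ x y : Fin 6, x ≠ 5 → y ≠ 5 → ∃ g ∈ stab3 d6, (g : Perm (Fin 6)) 5 = 5 ∧ (g : Perm (Fin 6)) x = y := by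
  intro x y hx hy
  have h1 : ∀ x y : Fin 6, x ≠ 5 → y ≠ 5 → ∃ k : Fin 5, ((t6 : Perm (Fin 6)) ^ k.val) 5 = 5 ∧
      ((t6 : Perm (Fin 6)) ^ k.val) x = y := by decide +kernel
  obtain ⟨k, hk1, hk2⟩ := h1 x y hx hy
  exact ⟨t6 ^ k.val, pow_mem t6_mem _, by simpa using hk1, by simpa using hk2⟩

theorem apart6 {A B : Subgroup (alternatingGroup (Fin 6))} {a b k : ℕ} (ha : Nat.card A = a) (hb : Nat.card B = b)
    (hk : Nat.lcm a b * k = 360) (hk5 : k ≤ 5) : Apart A B := by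
  have hs := simple_alt (n := 6) (by norm_num)
  have hA : Nat.card (alternatingGroup (Fin 6)) = 360 := card_alt (by norm_num) (by decide)
  apply apart_of_card
  intro K h1 h2
  by_contra hK
  rw [ha] at h1
  rw [hb] at h2
  have h3 := card_dvd_factorial hK
  have h4 := Subgroup.card_mul_index K
  obtain ⟨m, hm⟩ := Nat.lcm_dvd h1 h2
  rw [hA] at h3 h4
  rw [hm, ← hk, mul_assoc] at h4
  have h0 : 0 < Nat.lcm a b := by
    rcases Nat.eq_zero_or_pos (Nat.lcm a b) with h | h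
    · rw [h, zero_mul] at hk
      exact absurd hk (by norm_num)
    · exact h
  have h6 : m * K.index = k := Nat.eq_of_mul_eq_mul_left h0 h4
  have hk0 : 0 < k := by
    rcases Nat.eq_zero_or_pos k with h | h
    · rw [h, mul_zero] at hk
      exact absurd hk (by norm_num)
    · exact h
  have h7 : K.index ≤ 5 := (Nat.le_of_dvd hk0 (Dvd.intro_left m h6)).trans hk5
  have h8 : ∀ i : Fin 6, ¬ 360 ∣ i.val.factorial := by decide +kernel
  exact h8 ⟨K.index, by omega⟩ h3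

theorem alt_six : Sep 5 (alternatingGroup (Fin 6)) :=
  sep_five (A := St 6 1) (B := St 6 2) (C := stab3 d6) (D := stab2 p6) (E := stab2 q6) (coatom_St (by omega) (by omega)).1
    (coatom_St (by omega) (by omega)).1 (ne_top_of_notMem c6_notMem) (ne_top_of_notMem c6_notMem')
    (ne_top_of_notMem h6_notMem)
    (apart_St (by omega) (by omega) (by omega) (by omega)) (apart_tr (by omega) (by omega) tr_d6)
    (apart_tr (by omega) (by omega) tr_p6) (apart_tr (by omega) (by omega) tr_q6)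
    (apart_tr (by omega) (by omega) tr_d6) (apart_tr (by omega) (by omega) tr_p6)
    (apart_tr (by omega) (by omega) tr_q6) (apart6 card_d6 card_p6 (k := 3) (by decide +kernel) (by norm_num))
    (apart_prim tr_d6 pt6 c6_mem c6_three) (apart6 card_p6 card_q6 (k := 5) (by decide +kernel) (by norm_num))

/-- **The alternating groups have at least five classes of maximal subgroups.** -/
theorem alt {n : ℕ} (hn : 6 ≤ n) : Sep 5 (alternatingGroup (Fin n)) := by
  rcases Nat.lt_or_ge n 11 with h | h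
  · interval_cases n
    · exact alt_six
    · exact alt_seven
    · exact alt_eight
    · exact alt_nine
    · exact alt_ten
  · exact alt_large h

end Cfsg.Agent.H761.AltSep
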