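import Cfsg.Agent.H763.OverS
import Cfsg.Agent.H802.FusCentric
import Cfsg.Agent.H802.SylIn

/-!
# More on the groups `Nn E V` (helper761)

`G` a group, `S` a `p`-subgroup, `E` a saturated subsystem over `S` of `F_S(G)`; `Nn E V` (helper763) = the elements of
`N_G(V)` inducing maps of `E` on `V`.

* `Nn_up` : `V ≤ R ≤ S`, `R ≤ N_G(V)`, `C_G(V) ≤ V`, `t ∈ N_G(R)`, `t ∈ Nn E V` ⟹ `t ∈ Nn E R`;
* `Nn_down` : `V ≤ R ≤ S`, `t ∈ Nn E R`, `t ∈ N_G(V)` ⟹ `t ∈ Nn E V`.
-/

set_option autoImplicit false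

namespace Cfsg.Agent.H761

open Cfsg Cfsg.FusionSystem Cfsg.Agent.H802 Cfsg.Agent.H763

variable {G : Type*} [Group G] {S : Subgroup G}

theorem isFullyCentralized_of_centralizer_le [Finite S] {E : FusionSystem S}
    (hEF : E.IsSubsystemOf (groupFusionSystem S)) {V : Subgroup G} (hV : V ≤ S)
    (hC : Subgroup.centralizer (V : Set G) ≤ V) : E.IsFullyCentralized V := by
  refine ⟨hV, ?_⟩
  rintro Q ⟨φ, hφ, rfl⟩
  obtain ⟨g, rfl⟩ := exists_conj_of_mem' hEF hφ
  have hfin : Finite (centralizerIn S V) := finite_of_le inf_le_left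
  have hmem : ∀ x ∈ centralizerIn S (conjHom V g).range, g⁻¹ * x * g ∈ centralizerIn S V := by
    intro x hx
    have h1 : g⁻¹ * x * g ∈ Subgroup.centralizer (V : Set G) := by
      rw [Subgroup.mem_centralizer_iff]
      intro v hv
      have h2 := Subgroup.mem_centralizer_iff.1 hx.2 (g * v * g⁻¹) ⟨⟨v, hv⟩, rfl⟩
      calc v * (g⁻¹ * x * g) = g⁻¹ * (g * v * g⁻¹ * x) * g := by group
        _ = g⁻¹ * (x * (g * v * g⁻¹)) * g := by rw [h2]
        _ = g⁻¹ * x * g * v := by group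
    exact ⟨hV (hC h1), h1⟩
  refine Nat.card_le_card_of_injective (fun x => ⟨g⁻¹ * x * g, hmem x x.2⟩) ?_
  intro x y hxy
  have h := congrArg Subtype.val hxy
  exact Subtype.ext (mul_left_cancel (mul_right_cancel h))

/-- going up from a self-centralising subgroup -/
theorem Nn_up {p : ℕ} [Fact p.Prime] [Finite S] (hS : IsPGroup p S)
    {E : FusionSystem S} (hE : E.IsSaturated p) (hEF : E.IsSubsystemOf (groupFusionSystem S))
    {V R : Subgroup G} (hVR : V ≤ R) (hR : R ≤ S) (hRV : R ≤ Subgroup.normalizer (V : Set G))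
    (hC : Subgroup.centralizer (V : Set G) ≤ V) {t : G}
    (htR : t ∈ Subgroup.normalizer (R : Set G)) (ht : t ∈ Nn E (hVR.trans hR)) : t ∈ Nn E hR := by
  have hV : V ≤ S := hVR.trans hR
  refine ⟨htR, ?_⟩
  have hrec := isReceptive_of_isFullyCentralized hS hE (isFullyCentralized_of_centralizer_le hEF hV hC)
  have hr : (conjHom V t).range = V := by
    ext z
    constructor
    · rintro ⟨x, rfl⟩
      exact (Subgroup.mem_normalizer_iff.1 ht.1 x).1 x.2
    · intro hz
      have h1 := (Subgroup.mem_normalizer_iff.1 (inv_mem ht.1) z).1 hz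
      refine ⟨⟨_, h1⟩, ?_⟩
      show t * (t⁻¹ * z * t⁻¹⁻¹) * t⁻¹ = z
      group
  obtain ⟨ψ, hψ, hψe⟩ := hrec.2 V _ ht.2 hr
  -- the extender contains `R`
  have hext : R ≤ extender S V (conjHom V t) := by
    intro g hg
    rw [mem_extender_iff]
    refine ⟨hR hg, hRV hg, t * g * t⁻¹, hR ((Subgroup.mem_normalizer_iff.1 htR g).1 hg), fun x hx => ?_⟩
    show t * (g * x * g⁻¹) * t⁻¹ = t * g * t⁻¹ * (t * x * t⁻¹) * (t * g * t⁻¹)⁻¹
    group
  obtain ⟨y, rfl⟩ := exists_conj_of_mem' hEF hψ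
  have hz : y⁻¹ * t ∈ Subgroup.centralizer (V : Set G) := by
    rw [Subgroup.mem_centralizer_iff]
    intro v hv
    have h1 := hψe v hv (hext (hVR hv))
    have h2 : y * v * y⁻¹ = t * v * t⁻¹ := h1
    calc v * (y⁻¹ * t) = y⁻¹ * (y * v * y⁻¹) * t := by group
      _ = y⁻¹ * (t * v * t⁻¹) * t := by rw [h2]
      _ = y⁻¹ * t * v := by group
  have hzS : y⁻¹ * t ∈ V := hC hz
  obtain ⟨χ, hχ, he⟩ := exists_comp (E.conj_mem (P := R) hR (hV hzS)) hψ
    (fun x => hext (mul_mem (mul_mem (hVR hzS) x.2) (inv_mem (hVR hzS))))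
  refine mem_of_apply_eq hχ fun x => ?_
  rw [he]
  show t * x * t⁻¹ = y * (y⁻¹ * t * x * (y⁻¹ * t)⁻¹) * y⁻¹
  group

theorem Nn_down {E : FusionSystem S} {V R : Subgroup G} (hVR : V ≤ R) (hR : R ≤ S) {t : G}
    (htV : t ∈ Subgroup.normalizer (V : Set G)) (ht : t ∈ Nn E hR) : t ∈ Nn E (hVR.trans hR) :=
  ⟨htV, mem_of_agree ht.2 hVR fun _ _ => rfl⟩

/-- going up from a self-centralising subgroup, along a chain of normalisers -/
theorem Nn_up_chain {p : ℕ} [Fact p.Prime] [Finite S] (hS : IsPGroup p S)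
    {E : FusionSystem S} (hE : E.IsSaturated p) (hEF : E.IsSubsystemOf (groupFusionSystem S))
    {R : Subgroup G} (hR : R ≤ S) {t : G} (htR : t ∈ Subgroup.normalizer (R : Set G)) :
    ∀ (n : ℕ) (V : Subgroup G) (_ : Nat.card R ≤ Nat.card V + n) (hVR : V ≤ R)
      (_ : Subgroup.centralizer (V : Set G) ≤ V) (_ : t ∈ Nn E (hVR.trans hR)), t ∈ Nn E hR := by
  have hfin : Finite R := finite_of_le hR
  intro n
  induction n with
  | zero =>
    intro V hc hVR _ ht
    have h : V = R := Subgroup.eq_of_le_of_card_ge hVR hc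
    subst h
    exact ht
  | succ n ih =>
    intro V hc hVR hC ht
    by_cases hne : V = R
    · subst hne
      exact ht
    · have hlt := lt_inf_normalizer hS hVR hR hne
      have hle : (R ⊓ Subgroup.normalizer (V : Set G) : Subgroup G) ≤ R := inf_le_left
      have hfin2 : Finite (R ⊓ Subgroup.normalizer (V : Set G) : Subgroup G) := finite_of_le (S := R) hle
      have hcard : Nat.card V < Nat.card (R ⊓ Subgroup.normalizer (V : Set G) : Subgroup G) := by
        refine lt_of_le_of_ne (Nat.card_mono (Set.toFinite _) hlt.le) fun heq => ?_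
        exact hlt.ne (Subgroup.eq_of_le_of_card_ge hlt.le heq.ge)
      refine ih _ (by omega) hle ?_ ?_
      · exact (Subgroup.centralizer_le hlt.le).trans (hC.trans hlt.le)
      · refine Nn_up hS hE hEF hlt.le (hle.trans hR) inf_le_right hC ?_ ht
        rw [Subgroup.mem_normalizer_iff] at htR ⊢
        intro x
        have htV := ht.1
        constructor
        · rintro ⟨h1, h2⟩
          exact ⟨(htR x).1 h1, mul_mem (mul_mem htV h2) (Subgroup.inv_mem _ htV)⟩
        · rintro ⟨h1, h2⟩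
          refine ⟨(htR x).2 h1, ?_⟩
          have h3 := mul_mem (mul_mem (Subgroup.inv_mem _ htV) h2) htV
          have h4 : t⁻¹ * (t * x * t⁻¹) * t = x := by group
          rwa [h4] at h3

theorem Nn_up' {p : ℕ} [Fact p.Prime] [Finite S] (hS : IsPGroup p S)
    {E : FusionSystem S} (hE : E.IsSaturated p) (hEF : E.IsSubsystemOf (groupFusionSystem S))
    {V R : Subgroup G} (hVR : V ≤ R) (hR : R ≤ S)
    (hC : Subgroup.centralizer (V : Set G) ≤ V) {t : G}
    (htR : t ∈ Subgroup.normalizer (R : Set G)) (ht : t ∈ Nn E (hVR.trans hR)) : t ∈ Nn E hR :=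
  Nn_up_chain hS hE hEF hR htR (Nat.card R) V (by omega) hVR hC ht

/-- the `p`-elements normalising a normal subgroup of the Sylow subgroup `S` induce maps of `E` -/
theorem mem_Nn_of_pElement {p : ℕ} [Fact p.Prime] [Finite G] (hS : SylIn p S ⊤) {E : FusionSystem S}
    (hEF : E.IsInvariantIn (groupFusionSystem S)) {V : Subgroup G} (hV : V ≤ S)
    (hSV : S ≤ Subgroup.normalizer (V : Set G)) {x : G} (hx : x ∈ Subgroup.normalizer (V : Set G)) {k : ℕ}
    (hk : x ^ p ^ k = 1) : x ∈ Nn E hV := by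
  have h1 : SylIn p S (Subgroup.normalizer (V : Set G)) := hS.mono hSV le_top
  have h2 : IsPGroup p (Subgroup.zpowers x) := by
    rintro ⟨y, n, hn⟩
    refine ⟨k, Subtype.ext ?_⟩
    show y ^ p ^ k = 1
    rw [← hn]
    show (x ^ n) ^ p ^ k = 1
    rw [← zpow_natCast, ← zpow_mul, mul_comm, zpow_mul, zpow_natCast, hk, one_zpow]
  obtain ⟨n, hn, hn'⟩ := h1.exists_conj ((Subgroup.zpowers_le).2 hx) h2
  have h3 : n * x * n⁻¹ ∈ Nn E hV := by
    have h4 := hn' x (Subgroup.mem_zpowers x)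
    exact mem_Nn_of_mem hV h4 (hSV h4)
  have h5 := Nn_conj hEF hV h3 (Subgroup.inv_mem _ hn)
  have h6 : n⁻¹ * (n * x * n⁻¹) * n⁻¹⁻¹ = x := by group
  rwa [h6] at h5

theorem hom_eq_of_normalizer_le {E : FusionSystem S} (hEF : E.IsInvariantIn (groupFusionSystem S))
    (h : Subgroup.normalizer (S : Set G) ≤ Nn E (le_refl S)) (P : Subgroup G) :
    E.Hom P = (groupFusionSystem S).Hom P := by
  refine hom_eq_of_autGroup_le hEF ?_ P
  intro α hα
  have h1 := (mem_autGroup_iff _ le_rfl α).1 hα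
  obtain ⟨-, -, g, hg⟩ := h1
  have hg' : ∀ x : S, ((α x : S) : G) = g * x * g⁻¹ := hg
  have h2 := h (mem_normalizer_of_aut hg')
  exact (mem_autGroup_iff _ le_rfl α).2 (mem_of_apply_eq h2.2 hg')

/-- **Simplicity criterion**, in terms of the groups `Nn E V`. -/
theorem isSimple_of_normalizer_le {p : ℕ} (hsat : (groupFusionSystem S).IsSaturated p) (hS1 : S ≠ ⊥)
    (hcl : ∀ D : Subgroup G, (groupFusionSystem S).StronglyClosed D → D = ⊥ ∨ D = S)
    (h : ∀ E : FusionSystem S, E.IsSaturated p → E.IsInvariantIn (groupFusionSystem S) →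
      Subgroup.normalizer (S : Set G) ≤ Nn E (le_refl S)) :
    (groupFusionSystem S).IsSimple p := by
  refine ⟨hsat, hS1, fun D E hE => ?_⟩
  rcases hcl D hE.1.2.2.2.1 with h1 | h1
  · exact Or.inl h1
  · right
    subst h1
    exact ⟨rfl, hom_eq_of_normalizer_le hE.1.2.2 (h E hE.1.1 hE.1.2.2)⟩

end Cfsg.Agent.H761
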