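import Cfsg.Agent.Lib.ElemAbGL

/-!
# Class number of the extensions of an elementary abelian group of order 8 by its automorphism group (helper761)

`card_comm_le` : the commuting pairs of an extension of an abelian group are at most those of the split extension.
`card_conjClasses_le` : a group `J` of order 1344 acting on its elementary abelian subgroup `Z` of order 8 as the whole
automorphism group, with kernel `Z`, has at most 11 conjugacy classes (`2^3 . L₃(2)`, split or not).
-/

set_option autoImplicit false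

namespace Cfsg.Agent.H761.Ext8

/-! ### Commuting pairs of an extension -/

section comm

variable {J Z : Type*} [Group J] [Group Z]

/-- The commuting pairs of the split extension. -/
abbrev Quad (Z : Type*) [Group Z] := {q : (MulAut Z × MulAut Z) × (Z × Z) //
  q.1.1 * q.1.2 = q.1.2 * q.1.1 ∧ q.2.1 * q.1.1 q.2.2 = q.2.2 * q.1.2 q.2.1}

theorem card_comm_le [Finite Z] (ι : Z →* J) (hι : Function.Injective ι) (π : J →* MulAut Z)
    (hconj : ∀ x z, x * ι z * x⁻¹ = ι (π x z)) (hker : ∀ x, π x = 1 → ∃ z, ι z = x) :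
    Nat.card {p : J × J // Commute p.1 p.2} ≤ Nat.card (Quad Z) := by
  classical
  have hfin : Finite (MulAut Z) := Finite.of_injective (fun α : MulAut Z => (α : Z → Z)) (by
    intro α β h; exact MulEquiv.ext (congrFun h))
  let base : MulAut Z × MulAut Z → J × J := fun ab =>
    if h : ∃ p : J × J, Commute p.1 p.2 ∧ π p.1 = ab.1 ∧ π p.2 = ab.2 then h.choose else 1
  have hbase : ∀ p : {p : J × J // Commute p.1 p.2},
      Commute (base (π p.1.1, π p.1.2)).1 (base (π p.1.1, π p.1.2)).2 ∧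
      π (base (π p.1.1, π p.1.2)).1 = π p.1.1 ∧ π (base (π p.1.1, π p.1.2)).2 = π p.1.2 := by
    intro p
    have h : ∃ q : J × J, Commute q.1 q.2 ∧ π q.1 = (π p.1.1, π p.1.2).1 ∧ π q.2 = (π p.1.1, π p.1.2).2 :=
      ⟨p.1, p.2, rfl, rfl⟩
    have hb : base (π p.1.1, π p.1.2) = h.choose := dif_pos h
    rw [hb]
    exact h.choose_spec
  have hx : ∀ p : {p : J × J // Commute p.1 p.2}, ∃ z, ι z = p.1.1 * (base (π p.1.1, π p.1.2)).1⁻¹ := by
    intro p
    apply hker
    rw [map_mul, map_inv, (hbase p).2.1, mul_inv_cancel]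
  have hy : ∀ p : {p : J × J // Commute p.1 p.2}, ∃ z, ι z = p.1.2 * (base (π p.1.1, π p.1.2)).2⁻¹ := by
    intro p
    apply hker
    rw [map_mul, map_inv, (hbase p).2.2, mul_inv_cancel]
  choose e he using hx
  choose f hf using hy
  refine Nat.card_le_card_of_injective (fun p : {p : J × J // Commute p.1 p.2} =>
    (⟨((π p.1.1, π p.1.2), (e p, f p)), ?_, ?_⟩ : Quad Z)) ?_
  · show π p.1.1 * π p.1.2 = π p.1.2 * π p.1.1
    rw [← map_mul, ← map_mul, p.2.eq]
  · show e p * π p.1.1 (f p) = f p * π p.1.2 (e p)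
    apply hι
    set x₀ := (base (π p.1.1, π p.1.2)).1 with hx₀
    set y₀ := (base (π p.1.1, π p.1.2)).2 with hy₀
    obtain ⟨h1, h2, h3⟩ := hbase p
    rw [← hx₀] at h1 h2
    rw [← hy₀] at h1 h3
    have e1 : (p.1.1 : J) = ι (e p) * x₀ := by rw [he p, inv_mul_cancel_right]
    have e2 : (p.1.2 : J) = ι (f p) * y₀ := by rw [hf p, inv_mul_cancel_right]
    have e3 : x₀ * ι (f p) = ι (π p.1.1 (f p)) * x₀ := by rw [← h2, ← hconj]; group
    have e4 : y₀ * ι (e p) = ι (π p.1.2 (e p)) * y₀ := by rw [← h3, ← hconj]; group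
    have h4 : (p.1.1 : J) * p.1.2 = p.1.2 * p.1.1 := p.2.eq
    have h5 : (p.1.1 : J) * p.1.2 = ι (e p * π p.1.1 (f p)) * (x₀ * y₀) := by
      conv_lhs => rw [e1, e2]
      calc ι (e p) * x₀ * (ι (f p) * y₀) = ι (e p) * (x₀ * ι (f p)) * y₀ := by group
        _ = _ := by rw [e3, map_mul]; group
    have h6 : (p.1.2 : J) * p.1.1 = ι (f p * π p.1.2 (e p)) * (x₀ * y₀) := by
      conv_lhs => rw [e1, e2]
      calc ι (f p) * y₀ * (ι (e p) * x₀) = ι (f p) * (y₀ * ι (e p)) * x₀ := by group
        _ = ι (f p * π p.1.2 (e p)) * (y₀ * x₀) := by rw [e4, map_mul]; group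
        _ = _ := by rw [h1.eq]
    rw [h5, h6] at h4
    exact mul_right_cancel h4
  · intro p q h
    have h1 := congrArg Subtype.val h
    simp only [Prod.mk.injEq] at h1
    obtain ⟨⟨h2, h3⟩, h4, h5⟩ := h1
    apply Subtype.ext
    have e1 : (p.1.1 : J) = ι (e p) * (base (π p.1.1, π p.1.2)).1 := by rw [he p, inv_mul_cancel_right]
    have e2 : (p.1.2 : J) = ι (f p) * (base (π p.1.1, π p.1.2)).2 := by rw [hf p, inv_mul_cancel_right]
    have e3 : (q.1.1 : J) = ι (e q) * (base (π q.1.1, π q.1.2)).1 := by rw [he q, inv_mul_cancel_right]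
    have e4 : (q.1.2 : J) = ι (f q) * (base (π q.1.1, π q.1.2)).2 := by rw [hf q, inv_mul_cancel_right]
    refine Prod.ext ?_ ?_
    · rw [e1, e3, h2, h3, h4]
    · rw [e2, e4, h2, h3, h5]

end comm

/-! ### Codes -/

/-- entry `v` of the table `a` -/
def look (a v : ℕ) : ℕ := Nat.land (Nat.shiftRight a (Nat.mul 3 v)) 7

/-- the table of the linear map with the given columns -/
def tab (a b c : ℕ) : ℕ :=
  a * 8 + b * 64 + (a ^^^ b) * 512 + c * 4096 + (a ^^^ c) * 32768 + (b ^^^ c) * 262144 +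
    (a ^^^ b ^^^ c) * 2097152

/-- the tables commute -/
def comm (a b : ℕ) : Bool :=
  Nat.beq (look a (look b 1)) (look b (look a 1)) && (Nat.beq (look a (look b 2)) (look b (look a 2)) &&
    Nat.beq (look a (look b 4)) (look b (look a 4)))

/-- the condition on the pairs -/
def eqn (a b k : ℕ) : Bool :=
  Nat.beq (Nat.xor (Nat.mod k 8) (look a (Nat.div k 8))) (Nat.xor (Nat.div k 8) (look b (Nat.mod k 8)))

/-- the number of pairs -/
def cnt (a b k : ℕ) : ℕ := Nat.rec 0 (fun k ih => Nat.add ih (cond (eqn a b k) 1 0)) k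

theorem cnt_eq (a b k : ℕ) : cnt a b k = ((Finset.range k).filter fun k => eqn a b k = true).card := by
  induction k with
  | zero => rfl
  | succ k ih =>
    have h : cnt a b (k + 1) = cnt a b k + cond (eqn a b k) 1 0 := rfl
    rw [h, ih, Finset.range_add_one, Finset.filter_insert]
    rcases hb : eqn a b k with _ | _
    · simp
    · simp

/-- the tables of the invertible maps -/
def LL : List ℕ := [
  16434824, 14571144, 11789960, 9926280, 14599368, 16405704, 9954504, 11760840, 16362248, 14498568, 7072520, 5208840,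
  14526792, 16333128, 5237064, 7043400, 11644808, 9781128, 6999944, 5136264, 9809352, 11615688, 5164488, 6970824,
  16205392, 13882960, 12478032, 10155600, 12534480, 10212048, 16147152, 13824720, 16096528, 12369168, 6806800, 3079440,
  13737808, 10010448, 6770512, 3043152, 12425616, 16038288, 3135888, 6748560, 10066896, 13679568, 3099600, 6712272,
  14140504, 15946840, 10413144, 12219480, 12305048, 10441368, 15917720, 14054040, 13967128, 12103448, 4677400, 2813720,
  15801688, 10267992, 4705624, 2784600, 10296216, 15772568, 2870168, 4619160, 12130776, 13937112, 2841048, 4647384,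
  15673952, 13351520, 8219232, 5896800, 15637664, 10992800, 8182944, 3538080, 13278944, 10956512, 5824224, 3501792,
  8332128, 6009696, 15557472, 13235040, 8295840, 3650976, 15521184, 10876320, 5937120, 3614688, 13162464, 10840032,
  13609064, 15415400, 6154344, 7960680, 13508264, 8863400, 7917224, 3272360, 15342824, 8891624, 6081768, 3243240,
  8102696, 6239016, 15328040, 13464360, 6166440, 3385256, 15255464, 8746920, 8001000, 3356136, 13420008, 8775144,
  11415152, 9092720, 7687792, 5365360, 11507888, 15120560, 4053168, 7665840, 9149168, 15084272, 4016880, 5307120,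
  7836976, 4109616, 15062320, 11334960, 5478256, 4073328, 15026032, 8976240, 7742448, 5420016, 11355120, 9032688,
  9350264, 11156600, 5622904, 7429240, 9378488, 12991160, 3787448, 7400120, 11213048, 13019384, 3758328, 5564664,
  5707576, 3843896, 12932920, 11069240, 7542136, 3814776, 12961144, 9233784, 7513016, 5649336, 11125688, 9262008]

theorem nodup_LL : LL.Nodup := by decide +kernel

theorem tab_mem_aux : ((List.range 8).all fun a => (List.range 8).all fun b => (List.range 8).all fun c =>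
    (a == 0 || b == 0 || c == 0 || b == a || c == a || c == b || c == a ^^^ b) ||
      LL.contains (tab a b c)) = true := by decide +kernel

theorem tab_mem {a b c : ℕ} (ha : a < 8) (hb : b < 8) (hc : c < 8)
    (h : a ≠ 0 ∧ b ≠ 0 ∧ c ≠ 0 ∧ b ≠ a ∧ c ≠ a ∧ c ≠ b ∧ c ≠ a ^^^ b) : tab a b c ∈ LL := by
  have h1 := List.all_eq_true.1 tab_mem_aux a (List.mem_range.2 ha)
  have h2 := List.all_eq_true.1 h1 b (List.mem_range.2 hb)
  have h3 := List.all_eq_true.1 h2 c (List.mem_range.2 hc)
  obtain ⟨n1, n2, n3, n4, n5, n6, n7⟩ := h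
  rw [beq_false_of_ne n1, beq_false_of_ne n2, beq_false_of_ne n3, beq_false_of_ne n4, beq_false_of_ne n5,
    beq_false_of_ne n6, beq_false_of_ne n7] at h3
  simp only [Bool.or_self, Bool.false_or] at h3
  exact List.contains_iff_mem.1 h3

theorem look_tab : ∀ a < 8, ∀ b < 8, ∀ c < 8, look (tab a b c) 0 = 0 ∧ look (tab a b c) 1 = a ∧
    look (tab a b c) 2 = b ∧ look (tab a b c) 3 = a ^^^ b ∧ look (tab a b c) 4 = c ∧
    look (tab a b c) 5 = a ^^^ c ∧ look (tab a b c) 6 = b ^^^ c ∧ look (tab a b c) 7 = a ^^^ b ^^^ c := by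
  decide +kernel

/-- the total -/
def total : ℕ := (LL.map fun a => (LL.map fun b => cond (comm a b) (cnt a b 64) 0).sum).sum

theorem total_eq : Nat.beq total 14784 = true := by decide +kernel

attribute [irreducible] LL

/-- the set of the codes of the commuting pairs -/
def SS : Finset ((ℕ × ℕ) × ℕ) := ((LL.toFinset ×ˢ LL.toFinset) ×ˢ Finset.range 64).filter fun x =>
  comm x.1.1 x.1.2 = true ∧ eqn x.1.1 x.1.2 x.2 = true

theorem mem_SS {x : (ℕ × ℕ) × ℕ} (h1 : x.1.1 ∈ LL) (h2 : x.1.2 ∈ LL) (h3 : x.2 < 64)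
    (h4 : comm x.1.1 x.1.2 = true) (h5 : eqn x.1.1 x.1.2 x.2 = true) : x ∈ SS := by
  unfold SS
  rw [Finset.mem_filter, Finset.mem_product, Finset.mem_product, List.mem_toFinset, List.mem_toFinset,
    Finset.mem_range]
  exact ⟨⟨⟨h1, h2⟩, h3⟩, h4, h5⟩

theorem card_SS : SS.card = total := by
  unfold SS
  rw [Finset.card_filter, Finset.sum_product, Finset.sum_product]
  have e : ∀ a b : ℕ, (∑ k ∈ Finset.range 64, if comm a b = true ∧ eqn a b k = true then 1 else 0) =
      cond (comm a b) (cnt a b 64) 0 := by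
    intro a b
    rcases hb : comm a b with _ | _
    · simp
    · rw [cnt_eq, cond_true, Finset.card_filter]
      simp
  simp only [e]
  have h1 : ∀ f : ℕ → ℕ, ∑ x ∈ LL.toFinset, f x = (LL.map f).sum := fun f => List.sum_toFinset f nodup_LL
  rw [h1]
  have h2 : ∀ a, ∑ b ∈ LL.toFinset, cond (comm a b) (cnt a b 64) 0 =
      (LL.map fun b => cond (comm a b) (cnt a b 64) 0).sum := fun a => h1 _
  simp only [h2]
  rfl

attribute [irreducible] SS

/-! ### The code of an elementary abelian group of order 8 -/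

/-- the number of a vector -/
def cd (w : Fin 3 → ZMod 2) : ℕ := (w 0).val + 2 * (w 1).val + 4 * (w 2).val

theorem cd_lt : ∀ w, cd w < 8 := by decide +kernel
theorem cd_add : ∀ w w', cd (w + w') = cd w ^^^ cd w' := by decide +kernel
theorem cd_inj : ∀ w w', cd w = cd w' → w = w' := by decide +kernel

theorem comm_of_sq {Z : Type*} [Group Z] (hsq : ∀ z : Z, z * z = 1) (a b : Z) : a * b = b * a := by
  have h := hsq (a * b)
  have ha' : a⁻¹ = a := inv_eq_of_mul_eq_one_left (hsq a)
  have hb' : b⁻¹ = b := inv_eq_of_mul_eq_one_left (hsq b)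
  have : (a * b)⁻¹ = a * b := inv_eq_of_mul_eq_one_left h
  rw [mul_inv_rev, ha', hb'] at this
  exact this.symm

theorem exists_code {Z : Type*} [Group Z] (hsq : ∀ z : Z, z * z = 1) (h8 : Nat.card Z = 8) :
    ∃ φ : Z → ℕ, Function.Injective φ ∧ (∀ z, φ z < 8) ∧ ∀ a b, φ (a * b) = φ a ^^^ φ b := by
  have : Fact (Nat.Prime 2) := ⟨Nat.prime_two⟩
  let _ : CommGroup Z := { (inferInstance : Group Z) with mul_comm := comm_of_sq hsq }
  have h : ∀ x : Additive Z, 2 • x = 0 := fun x => by
    have h1 := hsq x.toMul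
    rw [← pow_two] at h1
    exact congrArg Additive.ofMul h1
  let _ := AddCommGroup.zmodModule h
  obtain ⟨b⟩ := Lib.ElemAbGL.exists_basis (W := Additive Z) 2 3 (by
    rw [show (2 : ℕ) ^ 3 = 8 by norm_num, ← h8]; exact Nat.card_congr Additive.toMul)
  refine ⟨fun z => cd (b.equivFun (Additive.ofMul z)), ?_, fun z => cd_lt _, ?_⟩
  · intro x y hxy
    have h1 := cd_inj _ _ hxy
    exact Additive.ofMul.injective (b.equivFun.injective h1)
  · intro x y
    show cd (b.equivFun (Additive.ofMul (x * y))) = _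
    rw [ofMul_mul, map_add, cd_add]

/-- **The number of the commuting pairs of the holomorph.** -/
theorem card_quad_le {Z : Type*} [Group Z] [Finite Z] (hsq : ∀ z : Z, z * z = 1) (h8 : Nat.card Z = 8) :
    Nat.card (Quad Z) ≤ 14784 := by
  classical
  obtain ⟨φ, hinj, hlt, hmul⟩ := exists_code hsq h8
  have hfin : Finite (MulAut Z) := Finite.of_injective (fun α : MulAut Z => (α : Z → Z)) (by
    intro α β h; exact MulEquiv.ext (congrFun h))
  have h1 : φ 1 = 0 := by
    have := hmul 1 1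
    rw [mul_one, Nat.xor_self] at this
    exact this
  -- `φ` is onto
  have hsurj : ∀ v < 8, ∃ z, φ z = v := by
    have hb : Function.Bijective (fun z : Z => (⟨φ z, hlt z⟩ : Fin 8)) := by
      rw [Nat.bijective_iff_injective_and_card]
      refine ⟨fun x y h => hinj (congrArg Fin.val h), ?_⟩
      rw [h8, Nat.card_eq_fintype_card, Fintype.card_fin]
    intro v hv
    obtain ⟨z, hz⟩ := hb.2 ⟨v, hv⟩
    exact ⟨z, congrArg Fin.val hz⟩
  obtain ⟨z₁, hz₁⟩ := hsurj 1 (by norm_num)
  obtain ⟨z₂, hz₂⟩ := hsurj 2 (by norm_num)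
  obtain ⟨z₄, hz₄⟩ := hsurj 4 (by norm_num)
  let c : MulAut Z → ℕ := fun α => tab (φ (α z₁)) (φ (α z₂)) (φ (α z₄))
  have hc : ∀ (α : MulAut Z) (z : Z), φ (α z) = look (c α) (φ z) := by
    intro α z
    obtain ⟨l0, l1, l2, l3, l4, l5, l6, l7⟩ := look_tab _ (hlt (α z₁)) _ (hlt (α z₂)) _ (hlt (α z₄))
    have hz := hlt z
    have hcases : φ z = 0 ∨ φ z = 1 ∨ φ z = 2 ∨ φ z = 3 ∨ φ z = 4 ∨ φ z = 5 ∨ φ z = 6 ∨ φ z = 7 := by omega
    rcases hcases with h | h | h | h | h | h | h | h
    · have : z = 1 := hinj (by rw [h, h1])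
      rw [h, this, map_one, h1]
      exact l0.symm
    · have : z = z₁ := hinj (by rw [h, hz₁])
      rw [h, this]
      exact l1.symm
    · have : z = z₂ := hinj (by rw [h, hz₂])
      rw [h, this]
      exact l2.symm
    · have : z = z₁ * z₂ := hinj (by rw [h, hmul, hz₁, hz₂]; rfl)
      rw [h, this, map_mul, hmul]
      exact l3.symm
    · have : z = z₄ := hinj (by rw [h, hz₄])
      rw [h, this]
      exact l4.symm
    · have : z = z₁ * z₄ := hinj (by rw [h, hmul, hz₁, hz₄]; rfl)
      rw [h, this, map_mul, hmul]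
      exact l5.symm
    · have : z = z₂ * z₄ := hinj (by rw [h, hmul, hz₂, hz₄]; rfl)
      rw [h, this, map_mul, hmul]
      exact l6.symm
    · have : z = z₁ * z₂ * z₄ := hinj (by rw [h, hmul, hmul, hz₁, hz₂, hz₄]; rfl)
      rw [h, this, map_mul, map_mul, hmul, hmul]
      exact l7.symm
  have hcL : ∀ α : MulAut Z, c α ∈ LL := by
    intro α
    have hne : ∀ {x y : Z}, φ x ≠ φ y → φ (α x) ≠ φ (α y) := by
      intro x y h h'
      exact h (congrArg φ (α.injective (hinj h')))
    refine tab_mem (hlt (α z₁)) (hlt (α z₂)) (hlt (α z₄)) (by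
      have e0 : φ (α 1) = 0 := by rw [map_one, h1]
      have e3 : φ (α (z₁ * z₂)) = φ (α z₁) ^^^ φ (α z₂) := by rw [map_mul, hmul]
      have p3 : φ (z₁ * z₂) = 3 := by rw [hmul, hz₁, hz₂]; rfl
      refine ⟨?_, ?_, ?_, ?_, ?_, ?_, ?_⟩
      · rw [← e0]; exact hne (by rw [hz₁, h1]; norm_num)
      · rw [← e0]; exact hne (by rw [hz₂, h1]; norm_num)
      · rw [← e0]; exact hne (by rw [hz₄, h1]; norm_num)
      · exact hne (by rw [hz₂, hz₁]; norm_num)
      · exact hne (by rw [hz₄, hz₁]; norm_num)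
      · exact hne (by rw [hz₄, hz₂]; norm_num)
      · rw [← e3]; exact hne (by rw [hz₄, p3]; norm_num))
  have hcinj : Function.Injective c := by
    intro α β h
    apply MulEquiv.ext
    intro z
    apply hinj
    rw [hc, hc, h]
  have hcomm : ∀ α β : MulAut Z, α * β = β * α → comm (c α) (c β) = true := by
    intro α β h
    have h2 : ∀ z, look (c α) (look (c β) (φ z)) = look (c β) (look (c α) (φ z)) := by
      intro z
      rw [← hc, ← hc, ← hc, ← hc]
      exact congrArg φ (congrArg (fun γ : MulAut Z => γ z) h)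
    have e1 := h2 z₁
    have e2 := h2 z₂
    have e4 := h2 z₄
    rw [hz₁] at e1
    rw [hz₂] at e2
    rw [hz₄] at e4
    unfold comm
    rw [e1, e2, e4, Nat.beq_refl, Nat.beq_refl, Nat.beq_refl]
    rfl
  have hF : ∀ q : Quad Z, ((c q.1.1.1, c q.1.1.2), φ q.1.2.1 + 8 * φ q.1.2.2) ∈ SS := by
    intro q
    have he := hlt q.1.2.1
    have hf := hlt q.1.2.2
    refine mem_SS (hcL _) (hcL _) (by show φ q.1.2.1 + 8 * φ q.1.2.2 < 64; omega) (hcomm _ _ q.2.1) ?_
    have hm : Nat.mod (φ q.1.2.1 + 8 * φ q.1.2.2) 8 = φ q.1.2.1 := by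
      show (φ q.1.2.1 + 8 * φ q.1.2.2) % 8 = _
      omega
    have hd : Nat.div (φ q.1.2.1 + 8 * φ q.1.2.2) 8 = φ q.1.2.2 := by
      show (φ q.1.2.1 + 8 * φ q.1.2.2) / 8 = _
      omega
    show eqn (c q.1.1.1) (c q.1.1.2) (φ q.1.2.1 + 8 * φ q.1.2.2) = true
    unfold eqn
    rw [hm, hd, ← hc, ← hc]
    have h3 := congrArg φ q.2.2
    rw [hmul, hmul] at h3
    have h4 : Nat.xor (φ q.1.2.1) (φ (q.1.1.1 q.1.2.2)) = Nat.xor (φ q.1.2.2) (φ (q.1.1.2 q.1.2.1)) := h3
    rw [h4]
    exact Nat.beq_refl _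
  have hinjF : Function.Injective (fun q : Quad Z =>
      (⟨((c q.1.1.1, c q.1.1.2), φ q.1.2.1 + 8 * φ q.1.2.2), hF q⟩ : SS)) := by
    intro q q' h
    have h2 := congrArg Subtype.val h
    simp only [Prod.mk.injEq] at h2
    obtain ⟨⟨h3, h4⟩, h5⟩ := h2
    have he := hlt q.1.2.1
    have he' := hlt q'.1.2.1
    apply Subtype.ext
    exact Prod.ext (Prod.ext (hcinj h3) (hcinj h4)) (Prod.ext (hinj (by omega)) (hinj (by omega)))
  have hcard := Nat.card_le_card_of_injective _ hinjF
  have h5 : Nat.card SS = 14784 := by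
    rw [Nat.card_eq_fintype_card, Fintype.card_coe, card_SS, Nat.eq_of_beq_eq_true total_eq]
  rwa [h5] at hcard

/-- **The class number.** -/
theorem card_conjClasses_le {J Z : Type*} [Group J] [Group Z] [Finite Z] (hsq : ∀ z : Z, z * z = 1)
    (h8 : Nat.card Z = 8) (hJ : Nat.card J = 1344) (ι : Z →* J) (hι : Function.Injective ι) (π : J →* MulAut Z)
    (hconj : ∀ x z, x * ι z * x⁻¹ = ι (π x z)) (hker : ∀ x, π x = 1 → ∃ z, ι z = x) :
    Nat.card (ConjClasses J) ≤ 11 := by
  have h1 := (card_comm_le ι hι π hconj hker).trans (card_quad_le hsq h8)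
  rw [card_comm_eq_card_conjClasses_mul_card, hJ] at h1
  omega

end Cfsg.Agent.H761.Ext8
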