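import Mathlib
import Cfsg.Prelude.Def_Solvable
import Cfsg.Agent.Lib.Cores
import Cfsg.Agent.Lib.CoprimeCommutator

/-!
# The second Fitting subgroup, elementwise (helper761, for S3817)

* `InF2 K x` : the closure `M` of the `K`-conjugates of `x` has `γ_d (γ_c M) = 1` for some `c`, `d`.
* `mem_F2_iff` : `x ∈ F₂(G)` iff `InF2 ⊤ x` (finite `G`).
* `mem_fitting_of_comm` : an `r`-element of `F₂(H)` commuting with the `s`-elements of `F(H)`, `s ≠ r`, lies in `F(H)`.
-/

set_option autoImplicit false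
set_option linter.unusedSectionVars false
set_option linter.style.haveILetI false

namespace Cfsg.Agent.H761.F2

open Subgroup Cfsg

variable {G : Type*} [Group G]

/-- the closure of the `K`-conjugates of `x` -/
def ncl (K : Subgroup G) (x : G) : Subgroup G := closure {g | ∃ k ∈ K, g = k * x * k⁻¹}

/-- `x` lies in the second Fitting subgroup of `K` -/
def InF2 (K : Subgroup G) (x : G) : Prop :=
  ∃ c d : ℕ, ((ncl K x).lowerCentralSeries c).lowerCentralSeries d = ⊥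

theorem mem_ncl (K : Subgroup G) (x : G) : x ∈ ncl K x :=
  subset_closure ⟨1, one_mem _, by group⟩

theorem conj_mem_ncl {K : Subgroup G} {x k g : G} (hk : k ∈ K) (hg : g ∈ ncl K x) : k * g * k⁻¹ ∈ ncl K x := by
  have h : ncl K x ≤ (ncl K x).comap (MulAut.conj k).toMonoidHom := by
    unfold ncl
    rw [closure_le]
    rintro _ ⟨l, hl, rfl⟩
    refine subset_closure ⟨k * l, mul_mem hk hl, ?_⟩
    change k * (l * x * l⁻¹) * k⁻¹ = _
    group
  exact h hg

theorem ncl_top_normal (x : G) : (ncl ⊤ x).Normal :=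
  ⟨fun _ hg k => conj_mem_ncl (mem_top k) hg⟩

theorem ncl_mono {K L : Subgroup G} (h : K ≤ L) (x : G) : ncl K x ≤ ncl L x :=
  closure_mono fun _ ⟨k, hk, e⟩ => ⟨k, h hk, e⟩

theorem ncl_top_le {x : G} {N : Subgroup G} (hN : N.Normal) (hx : x ∈ N) : ncl ⊤ x ≤ N := by
  unfold ncl
  rw [closure_le]
  rintro _ ⟨k, -, rfl⟩
  exact hN.conj_mem _ hx k

theorem map_ncl {H : Type*} [Group H] (f : G →* H) (K : Subgroup G) (x : G) :
    (ncl K x).map f = ncl (K.map f) (f x) := by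
  unfold ncl
  rw [MonoidHom.map_closure]
  congr 1
  ext h
  constructor
  · rintro ⟨_, ⟨k, hk, rfl⟩, rfl⟩
    exact ⟨f k, ⟨k, hk, rfl⟩, by simp⟩
  · rintro ⟨_, ⟨k, hk, rfl⟩, rfl⟩
    exact ⟨_, ⟨k, hk, rfl⟩, by simp⟩

theorem lcs_lcs_mono {A B : Subgroup G} (h : A ≤ B) (c d : ℕ) :
    (A.lowerCentralSeries c).lowerCentralSeries d ≤ (B.lowerCentralSeries c).lowerCentralSeries d :=
  lowerCentralSeries_mono d (lowerCentralSeries_mono c h)

theorem InF2.mono {K L : Subgroup G} (h : K ≤ L) {x : G} (hx : InF2 L x) : InF2 K x := by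
  obtain ⟨c, d, e⟩ := hx
  exact ⟨c, d, le_bot_iff.1 (e ▸ lcs_lcs_mono (ncl_mono h x) c d)⟩

theorem InF2.of_mem {K : Subgroup G} {x y : G} (hx : InF2 K x) (hy : y ∈ ncl K x) : InF2 K y := by
  obtain ⟨c, d, e⟩ := hx
  refine ⟨c, d, le_bot_iff.1 (e ▸ lcs_lcs_mono ?_ c d)⟩
  unfold ncl
  rw [closure_le]
  rintro _ ⟨k, hk, rfl⟩
  exact conj_mem_ncl hk hy

theorem InF2.pow {K : Subgroup G} {x : G} (hx : InF2 K x) (n : ℕ) : InF2 K (x ^ n) :=
  hx.of_mem (pow_mem (mem_ncl K x) n)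

theorem InF2.map {H : Type*} [Group H] {K : Subgroup G} {x : G} (hx : InF2 K x) (f : G →* H) :
    InF2 (K.map f) (f x) := by
  obtain ⟨c, d, e⟩ := hx
  refine ⟨c, d, ?_⟩
  rw [← map_ncl, ← map_lowerCentralSeries, ← map_lowerCentralSeries, e, Subgroup.map_bot]

theorem InF2.of_map {H : Type*} [Group H] {K : Subgroup G} {x : G} {f : G →* H} (hf : Function.Injective f)
    (hx : InF2 (K.map f) (f x)) : InF2 K x := by
  obtain ⟨c, d, e⟩ := hx
  refine ⟨c, d, ?_⟩
  rw [← map_ncl, ← map_lowerCentralSeries, ← map_lowerCentralSeries] at e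
  exact (Subgroup.map_eq_bot_iff_of_injective _ hf).1 e

section Fin

variable [Finite G]

theorem mem_fitting_iff {x : G} : x ∈ fittingSubgroup G ↔ ∃ n : ℕ, (ncl ⊤ x).lowerCentralSeries n = ⊥ := by
  constructor
  · intro hx
    have h1 : ncl ⊤ x ≤ fittingSubgroup G := ncl_top_le Lib.Cores.fittingSubgroup_normal hx
    obtain ⟨n, hn⟩ := (isNilpotent_iff_lowerCentralSeries (S := fittingSubgroup G)).1
      Lib.Cores.fittingSubgroup_isNilpotent
    exact ⟨n, le_bot_iff.1 (hn ▸ lowerCentralSeries_mono n h1)⟩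
  · rintro ⟨n, hn⟩
    exact Lib.Cores.le_fittingSubgroup (ncl_top_normal x) (isNilpotent_of_lowerCentralSeries_eq_bot hn)
      (mem_ncl ⊤ x)

theorem lcs_normal {A : Subgroup G} (hA : A.Normal) (c : ℕ) : (A.lowerCentralSeries c).Normal :=
  Subgroup.lowerCentralSeries_normal A c

/-- `InF2 ⊤ x` through a nilpotent normal subgroup -/
theorem inF2_top_iff {x : G} : InF2 ⊤ x ↔
    QuotientGroup.mk' (fittingSubgroup G) x ∈ fittingSubgroup (G ⧸ fittingSubgroup G) := by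
  have htop : (⊤ : Subgroup G).map (QuotientGroup.mk' (fittingSubgroup G)) = ⊤ :=
    map_top_of_surjective _ (QuotientGroup.mk'_surjective _)
  rw [mem_fitting_iff, ← htop, ← map_ncl]
  constructor
  · rintro ⟨c, d, e⟩
    refine ⟨c, ?_⟩
    rw [← map_lowerCentralSeries, Subgroup.map_eq_bot_iff, QuotientGroup.ker_mk']
    exact Lib.Cores.le_fittingSubgroup (lcs_normal (ncl_top_normal x) c)
      (isNilpotent_of_lowerCentralSeries_eq_bot e)
  · rintro ⟨c, e⟩
    rw [← map_lowerCentralSeries, Subgroup.map_eq_bot_iff, QuotientGroup.ker_mk'] at e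
    obtain ⟨n, hn⟩ := (isNilpotent_iff_lowerCentralSeries (S := fittingSubgroup G)).1
      Lib.Cores.fittingSubgroup_isNilpotent
    exact ⟨c, n, le_bot_iff.1 (hn ▸ lowerCentralSeries_mono n e)⟩

/-- the statement's form -/
theorem mem_F2_iff {x : G} {hF : (fittingSubgroup G).Normal} :
    x ∈ (fittingSubgroup (G ⧸ fittingSubgroup G)).comap (QuotientGroup.mk' (fittingSubgroup G)) ↔ InF2 ⊤ x :=
  inF2_top_iff.symm

theorem inF2_subtype {K : Subgroup G} {x : G} (hx : x ∈ K) : InF2 (⊤ : Subgroup K) ⟨x, hx⟩ ↔ InF2 K x := by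
  have h1 : (⊤ : Subgroup K).map K.subtype = K := by
    rw [← MonoidHom.range_eq_map, range_subtype]
  constructor
  · intro h
    have := h.map K.subtype
    rwa [h1] at this
  · intro h
    refine InF2.of_map K.subtype_injective ?_
    rwa [h1]

theorem mul_mem_inF2 {x y : G} (hx : InF2 ⊤ x) (hy : InF2 ⊤ y) : InF2 ⊤ (x * y) := by
  rw [inF2_top_iff] at hx hy ⊢
  rw [map_mul]
  exact mul_mem hx hy

theorem inF2_one : InF2 (⊤ : Subgroup G) 1 := by
  rw [inF2_top_iff, map_one]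
  exact one_mem _

theorem inF2_of_mem_fitting {x : G} (hx : x ∈ fittingSubgroup G) : InF2 (⊤ : Subgroup G) x := by
  rw [inF2_top_iff]
  have : QuotientGroup.mk' (fittingSubgroup G) x = 1 := (QuotientGroup.eq_one_iff x).2 hx
  rw [this]
  exact one_mem _

/-- a `p`-element of the Fitting subgroup lies in `O_p` -/
theorem mem_pCore_of_mem_fitting {p : ℕ} (hp : p.Prime) {z : G}
    (hz : z ∈ fittingSubgroup G) {k : ℕ} (hk : z ^ p ^ k = 1) : z ∈ pCore p G := by
  haveI : Fact p.Prime := ⟨hp⟩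
  have hN : (fittingSubgroup G).Normal := Lib.Cores.fittingSubgroup_normal
  have hnil : Group.IsNilpotent (fittingSubgroup G) := Lib.Cores.fittingSubgroup_isNilpotent
  have hp : IsPGroup p (zpowers (⟨z, hz⟩ : fittingSubgroup G)) := by
    refine IsPGroup.of_card_dvd_pow (n := k) ?_
    rw [Nat.card_zpowers]
    apply orderOf_dvd_of_pow_eq_one
    apply Subtype.ext
    simpa using hk
  obtain ⟨P, hP⟩ := hp.exists_le_sylow
  have hPn : P.Normal := inferInstance
  have hPc : (P : Subgroup (fittingSubgroup G)).Characteristic :=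
    Sylow.characteristic_of_normal P hPn
  have h1 : (P : Subgroup (fittingSubgroup G)).map (fittingSubgroup G).subtype ≤ pCore p G :=
    Lib.Cores.le_pCore inferInstance (P.isPGroup'.map _)
  exact h1 ⟨⟨z, hz⟩, hP (mem_zpowers _), rfl⟩

theorem pow_mem_pCore {p : ℕ} {z : G} (hz : z ∈ pCore p G) : ∃ k : ℕ, z ^ p ^ k = 1 := by
  obtain ⟨k, hk⟩ := Lib.Cores.pCore_isPGroup (G := G) p ⟨z, hz⟩
  refine ⟨k, ?_⟩
  have := congrArg Subtype.val hk
  simpa using this

theorem pow_prime_pow_orderOf_coprime {r : ℕ} (hr : r.Prime) (z : G) :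
    ∃ k : ℕ, (orderOf (z ^ r ^ k)).Coprime r := by
  obtain ⟨k, m, hm, hkm⟩ := Nat.exists_eq_pow_mul_and_not_dvd (orderOf_pos z).ne' r hr.ne_one
  refine ⟨k, ?_⟩
  have h1 : orderOf (z ^ r ^ k) = m := by
    rw [orderOf_pow_of_dvd (pow_pos hr.pos k).ne' ⟨m, hkm⟩, hkm, Nat.mul_div_cancel_left _ (pow_pos hr.pos k)]
  rw [h1]
  exact ((Nat.Prime.coprime_iff_not_dvd hr).mpr hm).symm

/-- **Lemma B.** An `r`-element `x` of `F₂(G)` commuting with all `s`-elements of `F(G)`, `s ≠ r`, lies in `F(G)`. -/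
theorem mem_fitting_of_comm {r : ℕ} (hr : r.Prime) {x : G} (h2 : InF2 ⊤ x) {k : ℕ} (hk : x ^ r ^ k = 1)
    (hc : ∀ s : ℕ, s.Prime → s ≠ r → ∀ z ∈ fittingSubgroup G, ∀ j : ℕ, z ^ s ^ j = 1 → x * z = z * x) :
    x ∈ fittingSubgroup G := by
  set F := fittingSubgroup G with hF
  have hFn : F.Normal := Lib.Cores.fittingSubgroup_normal
  set M := ncl ⊤ x with hM
  have hMn : M.Normal := ncl_top_normal x
  -- (a)
  have ha : ∀ s : ℕ, s.Prime → s ≠ r → ∀ z ∈ F, ∀ j : ℕ, z ^ s ^ j = 1 → ∀ m ∈ M, m * z = z * m := by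
    intro s hs hsr z hz j hj
    have h1 : M ≤ centralizer ({z} : Set G) := by
      rw [hM, ncl, closure_le]
      rintro _ ⟨g, -, rfl⟩
      rw [SetLike.mem_coe, mem_centralizer_singleton_iff]
      have h3 : x * (g⁻¹ * z * g) = (g⁻¹ * z * g) * x := by
        have h4 := hFn.conj_mem z hz g⁻¹
        rw [inv_inv] at h4
        refine hc s hs hsr _ h4 j ?_
        have h5 : g⁻¹ * z * g = g⁻¹ * z * g⁻¹⁻¹ := by group
        rw [h5, conj_pow, hj]; group
      calc g * x * g⁻¹ * z = g * (x * (g⁻¹ * z * g)) * g⁻¹ := by group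
        _ = g * ((g⁻¹ * z * g) * x) * g⁻¹ := by rw [h3]
        _ = z * (g * x * g⁻¹) := by group
    intro m hm
    exact mem_centralizer_singleton_iff.1 (h1 hm)
  -- (b)
  have hb : ∀ m ∈ M, ∃ j : ℕ, m ^ r ^ j ∈ F := by
    have h3 : QuotientGroup.mk' F x ∈ pCore r (G ⧸ F) := by
      refine mem_pCore_of_mem_fitting hr (inF2_top_iff.1 h2) (k := k) ?_
      rw [← map_pow, hk, map_one]
    have h4 : M ≤ (pCore r (G ⧸ F)).comap (QuotientGroup.mk' F) :=
      ncl_top_le (Lib.Cores.pCore_normal r |>.comap _) h3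
    intro m hm
    obtain ⟨j, hj⟩ := pow_mem_pCore (h4 hm)
    refine ⟨j, ?_⟩
    rw [← map_pow] at hj
    exact (QuotientGroup.eq_one_iff _).1 hj
  -- (c)
  have hcc : ∀ z ∈ F, (orderOf z).Coprime r → ∀ m ∈ M, m * z = z * m := by
    intro z hz hzr
    refine Lib.CoprimeCommutator.induction_prime_power (zpowers z) (fun a => ∀ m ∈ M, m * a = a * m)
      (fun m _ => by rw [mul_one, one_mul]) (fun a _ b _ h1 h2 m hm => by
        rw [← mul_assoc, h1 m hm, mul_assoc, h2 m hm, mul_assoc]) ?_ z (mem_zpowers z)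
    intro p n hp a ha' hap
    by_cases hpr : p = r
    · subst hpr
      have h1 : orderOf a ∣ orderOf z := by
        obtain ⟨i, rfl⟩ := ha'
        exact orderOf_dvd_of_mem_zpowers ⟨i, rfl⟩
      have h2 : orderOf a ∣ p ^ n := orderOf_dvd_of_pow_eq_one hap
      have h3 : orderOf a ∣ 1 := by
        have := Nat.dvd_gcd h1 h2
        rwa [(hzr.pow_right n : (orderOf z).Coprime (p ^ n))] at this
      have h4 : a = 1 := orderOf_eq_one_iff.1 (Nat.dvd_one.1 h3)
      intro m _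
      rw [h4, mul_one, one_mul]
    · refine ha p hp hpr a ?_ n hap
      exact (zpowers_le.2 hz) ha'
  -- (d)
  have hnil : Group.IsNilpotent M := by
    have hcen : IsPGroup r (M ⧸ Subgroup.center M) := by
      intro q
      obtain ⟨m, rfl⟩ := QuotientGroup.mk_surjective q
      obtain ⟨j, hj⟩ := hb m m.2
      obtain ⟨i, hi⟩ := pow_prime_pow_orderOf_coprime hr ((m : G) ^ r ^ j)
      refine ⟨j + i, ?_⟩
      rw [← QuotientGroup.mk_pow, QuotientGroup.eq_one_iff, Subgroup.mem_center_iff]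
      intro y
      apply Subtype.ext
      have e : ((m ^ r ^ (j + i) : M) : G) = ((m : G) ^ r ^ j) ^ r ^ i := by
        rw [SubmonoidClass.coe_pow, ← pow_mul, ← pow_add]
      rw [Subgroup.coe_mul, Subgroup.coe_mul, e]
      exact hcc _ (pow_mem hj _) hi y y.2
    haveI : Fact r.Prime := ⟨hr⟩
    exact Group.of_quotient_center_nilpotent hcen.isNilpotent
  exact Lib.Cores.le_fittingSubgroup hMn hnil (mem_ncl ⊤ x)

/-- the `s`-elements of a nilpotent subgroup form a subgroup -/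
theorem exists_sylow_of_nilpotent {A : Subgroup G} (hA : Group.IsNilpotent A) {s : ℕ} (hs : s.Prime) :
    ∃ S : Subgroup G, IsPGroup s S ∧ ∀ a : G, a ∈ S ↔ a ∈ A ∧ ∃ k : ℕ, a ^ s ^ k = 1 := by
  haveI : Fact s.Prime := ⟨hs⟩
  obtain ⟨P⟩ : Nonempty (Sylow s A) := inferInstance
  have hPn : P.Normal := inferInstance
  refine ⟨(P : Subgroup A).map A.subtype, P.isPGroup'.map _, fun a => ⟨?_, ?_⟩⟩
  · rintro ⟨b, hb, rfl⟩
    refine ⟨b.2, ?_⟩
    obtain ⟨k, hk⟩ := P.isPGroup' ⟨b, hb⟩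
    refine ⟨k, ?_⟩
    have := congrArg (fun z : P => ((z : A) : G)) hk
    simpa using this
  · rintro ⟨haA, k, hk⟩
    have hp : IsPGroup s (zpowers (⟨a, haA⟩ : A)) := by
      refine IsPGroup.of_card_dvd_pow (n := k) ?_
      rw [Nat.card_zpowers]
      apply orderOf_dvd_of_pow_eq_one
      apply Subtype.ext
      simpa using hk
    refine ⟨⟨a, haA⟩, ?_, rfl⟩
    obtain ⟨Q, hQ⟩ := hp.exists_le_sylow
    have hQP : Q = P := by
      haveI := Sylow.unique_of_normal P hPn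
      exact Subsingleton.elim _ _
    rw [← hQP]
    exact hQ (mem_zpowers _)

/-- decomposition into an `s`-element and an `s'`-element -/
theorem exists_decomp (a : G) {s : ℕ} (hs : s.Prime) :
    ∃ u v : G, a = u * v ∧ u ∈ zpowers a ∧ v ∈ zpowers a ∧ (∃ k : ℕ, u ^ s ^ k = 1) ∧ (orderOf v).Coprime s := by
  obtain ⟨k, m, hm, hkm⟩ := Nat.exists_eq_pow_mul_and_not_dvd (orderOf_pos a).ne' s hs.ne_one
  have hcop : Nat.Coprime (s ^ k) m := ((Nat.Prime.coprime_iff_not_dvd hs).mpr hm).pow_left k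
  have hbez : (1 : ℤ) = (s ^ k : ℕ) * Nat.gcdA (s ^ k) m + (m : ℕ) * Nat.gcdB (s ^ k) m := by
    have := Nat.gcd_eq_gcd_ab (s ^ k) m
    rw [hcop] at this
    exact_mod_cast this
  refine ⟨a ^ ((m : ℤ) * Nat.gcdB (s ^ k) m), a ^ (((s ^ k : ℕ) : ℤ) * Nat.gcdA (s ^ k) m), ?_, ⟨_, rfl⟩, ⟨_, rfl⟩,
    ⟨k, ?_⟩, ?_⟩
  · rw [← zpow_add, add_comm, ← hbez, zpow_one]
  · rw [← zpow_natCast, ← zpow_mul]
    have : (m : ℤ) * Nat.gcdB (s ^ k) m * ((s ^ k : ℕ) : ℤ) = (orderOf a : ℤ) * Nat.gcdB (s ^ k) m := by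
      rw [hkm]; push_cast; ring
    rw [this, zpow_mul, zpow_natCast, pow_orderOf_eq_one, one_zpow]
  · have h1 : (a ^ (((s ^ k : ℕ) : ℤ) * Nat.gcdA (s ^ k) m)) ^ m = 1 := by
      rw [← zpow_natCast, ← zpow_mul]
      have : ((s ^ k : ℕ) : ℤ) * Nat.gcdA (s ^ k) m * (m : ℤ) = (orderOf a : ℤ) * Nat.gcdA (s ^ k) m := by
        rw [hkm]; push_cast; ring
      rw [this, zpow_mul, zpow_natCast, pow_orderOf_eq_one, one_zpow]
    exact Nat.Coprime.coprime_dvd_left (orderOf_dvd_of_pow_eq_one h1)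
      ((Nat.Prime.coprime_iff_not_dvd hs).mpr hm).symm

end Fin

end Cfsg.Agent.H761.F2
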