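import Mathlib
import Cfsg.Agent.H761.F2Core
import Cfsg.Agent.S0044

/-!
# S3817, the solvable part (helper761)

`inF2_of_forall` : `x` in a solvable normal subgroup of the finite group `G` and `x ∈ F₂(⟨x, y⟩)` for all `y ∈ G`
imply `x ∈ F₂(G)`.
-/

set_option autoImplicit false
set_option linter.unusedSectionVars false
set_option linter.style.haveILetI false

namespace Cfsg.Agent.H761.F2

open Subgroup Cfsg
open scoped commutatorElement

universe u

/-- a nontrivial solvable normal subgroup gives a nontrivial Fitting subgroup -/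
theorem eq_bot_of_fitting_bot {G : Type u} [Group G] [Finite G] (hF : fittingSubgroup G = ⊥) {N : Subgroup G}
    (hN : N.Normal) (hs : Group.IsSolvable N) : N = ⊥ := by
  have h1 := Lib.Cores.map_subtype_fittingSubgroup hN
  rw [hF, inf_bot_eq, Subgroup.map_eq_bot_iff_of_injective _ N.subtype_injective] at h1
  have h2 := Cfsg.Agent.S0044.centralizer_fitting_le N Lib.Cores.fittingSubgroup_normal
  rw [h1] at h2
  rw [eq_bot_iff]
  intro g hg
  have h3 : (⟨g, hg⟩ : N) ∈ centralizer ((⊥ : Subgroup N) : Set N) := by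
    rw [mem_centralizer_iff]
    intro z hz
    rw [mem_bot.1 hz, one_mul, mul_one]
  have h4 := mem_bot.1 (h2 h3)
  exact mem_bot.2 (congrArg Subtype.val h4)

theorem inF2_of_forall_aux (n : ℕ) : ∀ (G : Type u) [Group G] [Finite G], Nat.card G = n → ∀ N : Subgroup G,
    N.Normal → Group.IsSolvable N → ∀ x ∈ N, ∀ r : ℕ, r.Prime → ∀ k : ℕ, x ^ r ^ k = 1 →
    (∀ y : G, InF2 (closure ({x, y} : Set G)) x) → InF2 ⊤ x := by
  induction n using Nat.strong_induction_on with
  | _ n ih =>
    intro G _ _ hn N hN hNs x hx r hr k hk h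
    have hFn : (fittingSubgroup G).Normal := Lib.Cores.fittingSubgroup_normal
    by_cases hF : fittingSubgroup G = ⊥
    · have h1 := eq_bot_of_fitting_bot hF hN hNs
      rw [h1, mem_bot] at hx
      rw [hx]
      exact inF2_one
    set F := fittingSubgroup G with hFd
    have hcard : Nat.card (G ⧸ F) < n := by
      rw [← hn]
      have h3 := Subgroup.card_eq_card_quotient_mul_card_subgroup F
      have h4 : 1 < Nat.card F := (Subgroup.one_lt_card_iff_ne_bot F).mpr hF
      have h5 : 0 < Nat.card (G ⧸ F) := Nat.card_pos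
      nlinarith
    have hq : InF2 ⊤ (QuotientGroup.mk' F x) := by
      refine ih _ hcard (G ⧸ F) rfl (N.map (QuotientGroup.mk' F)) (hN.map _ (QuotientGroup.mk'_surjective F)) ?_ _
        ⟨x, hx, rfl⟩ r hr k (by rw [← map_pow, hk, map_one]) ?_
      · exact Group.isSolvable_of_surjective (f := (QuotientGroup.mk' F).subgroupMap N)
          ((QuotientGroup.mk' F).subgroupMap_surjective N)
      · intro y
        obtain ⟨y, rfl⟩ := QuotientGroup.mk'_surjective F y
        have := (h y).map (QuotientGroup.mk' F)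
        rwa [MonoidHom.map_closure, Set.image_pair] at this
    rw [inF2_top_iff]
    refine mem_fitting_of_comm hr hq (k := k) (by rw [← map_pow, hk, map_one]) ?_
    intro s hs hsr z hz j hj
    have hzp := mem_pCore_of_mem_fitting hs hz hj
    obtain ⟨y, rfl⟩ := QuotientGroup.mk'_surjective F z
    have h1 := stepC hr hs (Ne.symm hsr) (x := x) (y := y) hk hFd hzp (fun v _ => h (v * y))
    have h2 : QuotientGroup.mk' F (x⁻¹ * y⁻¹ * x * y) = 1 := (QuotientGroup.eq_one_iff _).2 h1
    simp only [map_mul, map_inv] at h2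
    have h3 : QuotientGroup.mk' F y * QuotientGroup.mk' F x *
        ((QuotientGroup.mk' F x)⁻¹ * (QuotientGroup.mk' F y)⁻¹ * QuotientGroup.mk' F x * QuotientGroup.mk' F y) =
        QuotientGroup.mk' F x * QuotientGroup.mk' F y := by group
    rw [h2, mul_one] at h3
    exact h3.symm

/-- **S3817, the solvable part.** -/
theorem inF2_of_forall {G : Type u} [Group G] [Finite G] {N : Subgroup G} (hN : N.Normal) (hs : Group.IsSolvable N)
    {x : G} (hx : x ∈ N) (h : ∀ y : G, InF2 (closure ({x, y} : Set G)) x) : InF2 ⊤ x := by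
  refine Lib.CoprimeCommutator.induction_prime_power (zpowers x) (fun a => InF2 ⊤ a) inF2_one
    (fun a _ b _ ha hb => mul_mem_inF2 ha hb) ?_ x (mem_zpowers x)
  intro p k hp a ha hak
  refine inF2_of_forall_aux _ G rfl N hN hs a ((zpowers_le.2 hx) ha) p hp k hak ?_
  intro y
  obtain ⟨i, rfl⟩ := (mem_zpowers_iff.1 ha)
  have h1 : x ^ i ∈ ncl (closure ({x, y} : Set G)) x := zpow_mem (mem_ncl _ x) i
  refine ((h y).of_mem h1).mono ?_
  rw [closure_le]
  rintro g (rfl | rfl)
  · exact zpow_mem (subset_closure (by simp)) i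
  · exact subset_closure (by simp)

/-- the closure of the conjugates is solvable -/
theorem isSolvable_of_lcs_lcs {G : Type u} [Group G] (A : Subgroup G) (c d : ℕ)
    (h : (A.lowerCentralSeries c).lowerCentralSeries d = ⊥) : Group.IsSolvable A := by
  set B := A.lowerCentralSeries c with hB
  have hBn : (B.subgroupOf A).Normal := by
    have h1 : B.subgroupOf A = (⊤ : Subgroup A).lowerCentralSeries c := by
      apply Subgroup.map_injective A.subtype_injective
      rw [map_lowerCentralSeries, ← MonoidHom.range_eq_map, range_subtype, subgroupOf_map_subtype, ← hB,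
        inf_eq_left]
      exact lowerCentralSeries_le_self A c
    rw [h1]
    exact Subgroup.lowerCentralSeries_normal _ c
  have h1 : B.subgroupOf A = (⊤ : Subgroup A).lowerCentralSeries c := by
    apply Subgroup.map_injective A.subtype_injective
    rw [map_lowerCentralSeries, ← MonoidHom.range_eq_map, range_subtype, subgroupOf_map_subtype, ← hB,
      inf_eq_left]
    exact lowerCentralSeries_le_self A c
  refine (Group.isSolvable_iff_subgroup_quotient (B.subgroupOf A)).2 ⟨?_, ?_⟩
  · have h2 : Group.IsNilpotent B := isNilpotent_of_lowerCentralSeries_eq_bot h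
    have h3 : Group.IsSolvable B := inferInstance
    have hBA : B ≤ A := lowerCentralSeries_le_self A c
    exact Group.isSolvable_of_surjective (f := (subgroupOfEquivOfLe hBA).symm.toMonoidHom)
      (subgroupOfEquivOfLe hBA).symm.surjective
  · have h4 : Group.IsNilpotent (A ⧸ B.subgroupOf A) := by
      rw [Subgroup.nilpotent_iff_lowerCentralSeries]
      refine ⟨c, ?_⟩
      rw [← map_top_of_surjective _ (QuotientGroup.mk'_surjective (B.subgroupOf A)), ← map_lowerCentralSeries,
        Subgroup.map_eq_bot_iff, QuotientGroup.ker_mk', h1]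
    infer_instance

theorem isSolvable_closure {G : Type u} [Group G] [Finite G] {x y : G}
    (h : InF2 (closure ({x, y} : Set G)) x) : Group.IsSolvable (closure ({x, y} : Set G)) := by
  set K := closure ({x, y} : Set G) with hK
  have hxK : x ∈ K := subset_closure (by simp)
  have hyK : y ∈ K := subset_closure (by simp)
  have h1 := (inF2_subtype hxK).2 h
  obtain ⟨c, d, e⟩ := h1
  set A : Subgroup K := ncl ⊤ (⟨x, hxK⟩ : K) with hA
  have hAn : A.Normal := ncl_top_normal _
  have hAs : Group.IsSolvable A := isSolvable_of_lcs_lcs A c d e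
  refine (Group.isSolvable_iff_subgroup_quotient A).2 ⟨hAs, ?_⟩
  have hgen : closure ({⟨x, hxK⟩, ⟨y, hyK⟩} : Set K) = ⊤ := by
    apply Subgroup.map_injective K.subtype_injective
    rw [MonoidHom.map_closure, Set.image_pair, ← MonoidHom.range_eq_map, range_subtype]
    exact hK.symm
  have hgen' := congrArg (Subgroup.map (QuotientGroup.mk' A)) hgen
  rw [MonoidHom.map_closure, Set.image_pair, map_top_of_surjective _ (QuotientGroup.mk'_surjective _)] at hgen'
  have hx1 : QuotientGroup.mk' A ⟨x, hxK⟩ = 1 := (QuotientGroup.eq_one_iff _).2 (mem_ncl _ _)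
  rw [hx1] at hgen'
  have htop : (⊤ : Subgroup (K ⧸ A)) ≤ zpowers (QuotientGroup.mk' A ⟨y, hyK⟩) := by
    rw [← hgen', closure_le]
    rintro g (rfl | rfl)
    · exact one_mem _
    · exact mem_zpowers _
  refine Group.isSolvable_of_comm fun a b => ?_
  obtain ⟨i, rfl⟩ := mem_zpowers_iff.1 (htop (mem_top a))
  obtain ⟨j, rfl⟩ := mem_zpowers_iff.1 (htop (mem_top b))
  rw [← zpow_add, ← zpow_add, add_comm]

/-- the statement of S3817 from the radical theorem -/
theorem statement_of_radical {G : Type u} [Group G] [Finite G]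
    (hrad : ∀ x : G, (∀ y : G, Group.IsSolvable (closure ({x, y} : Set G))) →
      ∃ N : Subgroup G, N.Normal ∧ Group.IsSolvable N ∧ x ∈ N)
    [hF : (Cfsg.fittingSubgroup G).Normal]
    (hK : ∀ K : Subgroup G, (Cfsg.fittingSubgroup ↥K).Normal) (x : G) :
    x ∈ (Cfsg.fittingSubgroup (G ⧸ Cfsg.fittingSubgroup G)).comap (QuotientGroup.mk' (Cfsg.fittingSubgroup G)) ↔
      ∀ y : G, ∀ hx : x ∈ Subgroup.closure ({x, y} : Set G),
        haveI := hK (Subgroup.closure ({x, y} : Set G));
        (⟨x, hx⟩ : ↥(Subgroup.closure ({x, y} : Set G))) ∈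
          (Cfsg.fittingSubgroup (↥(Subgroup.closure ({x, y} : Set G)) ⧸
            Cfsg.fittingSubgroup ↥(Subgroup.closure ({x, y} : Set G)))).comap
            (QuotientGroup.mk' (Cfsg.fittingSubgroup ↥(Subgroup.closure ({x, y} : Set G)))) := by
  rw [mem_F2_iff]
  constructor
  · intro h y hx
    refine mem_F2_iff.2 ?_
    rw [inF2_subtype hx]
    exact h.mono le_top
  · intro h
    have h1 : ∀ y : G, InF2 (closure ({x, y} : Set G)) x := by
      intro y
      have hx : x ∈ closure ({x, y} : Set G) := subset_closure (by simp)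
      exact (inF2_subtype hx).1 (mem_F2_iff.1 (h y hx))
    obtain ⟨N, hN, hs, hxN⟩ := hrad x fun y => isSolvable_closure (h1 y)
    exact inF2_of_forall hN hs hxN h1

end Cfsg.Agent.H761.F2
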