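import Cfsg.Agent.Lib.F2Rank

/-!
# The rank of a packed matrix over the field with two elements, evaluated by the kernel (helper761)

`rk_eq` : if `okr n A r P = true` then `(toMat n A).rank = r`; rank one reductions with given pivots.
-/

set_option autoImplicit false

namespace Cfsg.Agent.H761.F2RankFn

open Cfsg.Agent.Lib.F2Mat Cfsg.Agent.Lib.F2Rank Matrix

/-! ### The rank one reduction -/

section step

variable {K : Type*} [Field K] {n : Type*} [Fintype n] [DecidableEq n]

omit [DecidableEq n] in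
theorem mulVec_vecMulVec (a b v : n → K) : vecMulVec a b *ᵥ v = (b ⬝ᵥ v) • a := by
  ext i
  rw [Matrix.mulVec, Pi.smul_apply, smul_eq_mul, dotProduct, dotProduct, Finset.sum_mul]
  refine Finset.sum_congr rfl fun j _ => ?_
  rw [vecMulVec_apply]
  ring

/-- Wedderburn's rank reduction. -/
theorem rank_step (M : Matrix n n K) (i₀ j₀ : n) (h : M i₀ j₀ = 1) :
    (M - vecMulVec (fun i => M i j₀) (M i₀)).rank + 1 = M.rank := by
  set M' := M - vecMulVec (fun i => M i j₀) (M i₀) with hM'
  have hM'v : ∀ v, M' *ᵥ v = M *ᵥ v - (M i₀ ⬝ᵥ v) • (fun i => M i j₀) := by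
    intro v
    rw [hM', Matrix.sub_mulVec, mulVec_vecMulVec]
  have h1 := LinearMap.finrank_range_add_finrank_ker M.mulVecLin
  have h2 := LinearMap.finrank_range_add_finrank_ker M'.mulVecLin
  have hr : M.rank = Module.finrank K (LinearMap.range M.mulVecLin) := rfl
  have hr' : M'.rank = Module.finrank K (LinearMap.range M'.mulVecLin) := rfl
  -- the kernel grows
  have hlt : LinearMap.ker M.mulVecLin < LinearMap.ker M'.mulVecLin := by
    refine lt_of_le_of_ne ?_ ?_
    · intro v hv
      rw [LinearMap.mem_ker, Matrix.mulVecLin_apply] at hv ⊢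
      have h3 : M i₀ ⬝ᵥ v = 0 := congrFun hv i₀
      rw [hM'v, hv, h3, zero_smul, sub_zero]
    · intro he
      have h3 : Pi.single j₀ (1 : K) ∈ LinearMap.ker M'.mulVecLin := by
        rw [LinearMap.mem_ker, Matrix.mulVecLin_apply, hM'v, Matrix.mulVec_single_one, dotProduct_single_one, h,
          one_smul]
        exact sub_self _
      rw [← he, LinearMap.mem_ker, Matrix.mulVecLin_apply, Matrix.mulVec_single_one] at h3
      have h4 := congrFun h3 i₀
      have h5 : M i₀ j₀ = 0 := h4
      rw [h] at h5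
      exact one_ne_zero h5
  have h3 := Submodule.finrank_lt_finrank_of_lt hlt
  -- by one
  have hle : LinearMap.range M.mulVecLin ≤ LinearMap.range M'.mulVecLin ⊔
      Submodule.span K {(fun i => M i j₀ : n → K)} := by
    rintro _ ⟨v, rfl⟩
    rw [Matrix.mulVecLin_apply]
    have h4 : M *ᵥ v = M' *ᵥ v + (M i₀ ⬝ᵥ v) • (fun i => M i j₀) := by
      rw [hM'v, sub_add_cancel]
    rw [h4]
    exact Submodule.add_mem_sup ⟨v, rfl⟩ (Submodule.smul_mem _ _ (Submodule.mem_span_singleton_self _))
  have h4 := Submodule.finrank_mono hle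
  have h5 := Submodule.finrank_add_le_finrank_add_finrank (LinearMap.range M'.mulVecLin)
    (Submodule.span K {(fun i => M i j₀ : n → K)})
  have h6 : Module.finrank K (Submodule.span K {(fun i => M i j₀ : n → K)}) ≤ 1 := by
    have h7 := finrank_span_le_card (R := K) ({(fun i => M i j₀ : n → K)} : Set (n → K))
    simpa using h7
  omega

end step

/-! ### The kernel function -/

/-- The reduction with the pivot at the bit `p`. -/
def rstep (n m A p : ℕ) : ℕ :=
  Nat.xor A (Nat.mul (Nat.land (Nat.shiftRight A (Nat.mod p n)) m)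
    (Nat.mod (Nat.shiftRight A (Nat.mul n (Nat.div p n))) (Nat.pow 2 n)))

/-- Check that the rank of `A` is `r`; `P` contains the positions of the pivots (14 bits each). -/
def rkAux (n m r : ℕ) : ℕ → ℕ → Bool :=
  Nat.rec (fun A _ => Nat.beq A 0)
    (fun _ ih A P => force A fun A => force P fun P => force (Nat.land P 16383) fun p =>
      cond (Nat.beq (Nat.land (Nat.shiftRight A p) 1) 1)
        (ih (rstep n m A p) (Nat.shiftRight P 14)) false) r

theorem rkAux_zero (n m A P : ℕ) : rkAux n m 0 A P = Nat.beq A 0 := rfl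

theorem rkAux_succ (n m r A P : ℕ) : rkAux n m (r + 1) A P =
    cond (Nat.beq (Nat.land (Nat.shiftRight A (Nat.land P 16383)) 1) 1)
      (rkAux n m r (rstep n m A (Nat.land P 16383)) (Nat.shiftRight P 14)) false := by
  show force A (fun A => force P fun P => force (Nat.land P 16383) fun p =>
      cond (Nat.beq (Nat.land (Nat.shiftRight A p) 1) 1)
        (rkAux n m r (rstep n m A p) (Nat.shiftRight P 14)) false) = _
  rw [force_eq, force_eq, force_eq]

theorem testBit_rstep {n : ℕ} (hn : 0 < n) (A p : ℕ) {i j : ℕ} (hi : i < n) (hj : j < n) :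
    (rstep n (msk n) A p).testBit (n * i + j) =
      (A.testBit (n * i + j) ^^ (A.testBit (n * i + p % n) && A.testBit (n * (p / n) + j))) := by
  have h1 : rstep n (msk n) A p = A ^^^ (Nat.land (Nat.shiftRight A (p % n)) (msk n) *
    ((A >>> (n * (p / n))) % 2 ^ n)) := rfl
  rw [h1, Nat.testBit_xor, land_msk hn, blk_mul, testBit_blk n ?_ hi hj]
  · cases A.testBit (n * i + p % n)
    · simp
    · simp [Nat.testBit_mod_two_pow, hj, Nat.testBit_shiftRight]
  · intro i _
    have h1 : (A >>> (n * (p / n))) % 2 ^ n < 2 ^ n := Nat.mod_lt _ (by positivity)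
    have h2 : (A.testBit (n * i + p % n)).toNat ≤ 1 := Bool.toNat_le _
    calc (A.testBit (n * i + p % n)).toNat * ((A >>> (n * (p / n))) % 2 ^ n)
        ≤ 1 * ((A >>> (n * (p / n))) % 2 ^ n) := Nat.mul_le_mul_right _ h2
      _ < 2 ^ n := by rwa [one_mul]

theorem rstep_lt {n : ℕ} (hn : 0 < n) {A : ℕ} (hA : A < 2 ^ (n * n)) (p : ℕ) :
    rstep n (msk n) A p < 2 ^ (n * n) := by
  have h1 : rstep n (msk n) A p = A ^^^ (Nat.land (Nat.shiftRight A (p % n)) (msk n) *
    ((A >>> (n * (p / n))) % 2 ^ n)) := rfl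
  rw [h1]
  apply Nat.xor_lt_two_pow hA
  rw [land_msk hn, blk_mul]
  apply blk_lt
  intro i _
  have h1 : (A >>> (n * (p / n))) % 2 ^ n < 2 ^ n := Nat.mod_lt _ (by positivity)
  have h2 : (A.testBit (n * i + p % n)).toNat ≤ 1 := Bool.toNat_le _
  calc (A.testBit (n * i + p % n)).toNat * ((A >>> (n * (p / n))) % 2 ^ n)
      ≤ 1 * ((A >>> (n * (p / n))) % 2 ^ n) := Nat.mul_le_mul_right _ h2
    _ < 2 ^ n := by rwa [one_mul]

theorem toMat_rstep {n : ℕ} (hn : 0 < n) {A p : ℕ} (hp : p < n * n) :
    toMat n (rstep n (msk n) A p) = toMat n A -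
      vecMulVec (fun i => toMat n A i ⟨p % n, Nat.mod_lt _ hn⟩)
        (toMat n A ⟨p / n, Nat.div_lt_of_lt_mul hp⟩) := by
  ext i j
  rw [Matrix.sub_apply, vecMulVec_apply, toMat_apply, testBit_rstep hn A p i.2 j.2, bz_xor, bz_and,
    sub_eq_add_neg, CharTwo.neg_eq]
  rfl

theorem testBit_of_beq {A p : ℕ} (h : Nat.beq (Nat.land (Nat.shiftRight A p) 1) 1 = true) :
    A.testBit p = true := by
  have h1 : (A >>> p) &&& 1 = 1 := Nat.eq_of_beq_eq_true h
  rw [Nat.and_one_is_mod, Nat.shiftRight_eq_div_pow] at h1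
  rw [Nat.testBit_eq_decide_div_mod_eq, h1]
  rfl

theorem rkAux_rank {n : ℕ} (hn : 0 < n) : ∀ (r A P : ℕ), A < 2 ^ (n * n) →
    rkAux n (msk n) r A P = true → (toMat n A).rank = r := by
  intro r
  induction r with
  | zero =>
    intro A P _ h
    rw [rkAux_zero] at h
    have h0 : A = 0 := Nat.eq_of_beq_eq_true h
    subst h0
    have h1 : toMat n 0 = 0 := by
      ext i j
      rw [toMat_apply, Nat.zero_testBit]; rfl
    rw [h1, Matrix.rank_zero]
  | succ r ih =>
    intro A P hA h
    rw [rkAux_succ] at h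
    rcases hb : Nat.beq (Nat.land (Nat.shiftRight A (Nat.land P 16383)) 1) 1 with _ | _
    · rw [hb, cond_false] at h
      exact absurd h Bool.false_ne_true
    · rw [hb, cond_true] at h
      obtain ⟨p, hp⟩ : ∃ p, p = Nat.land P 16383 := ⟨_, rfl⟩
      rw [← hp] at h hb
      have hbit := testBit_of_beq hb
      have hpn : p < n * n := by
        by_contra hcon
        rw [Nat.testBit_lt_two_pow (lt_of_lt_of_le hA (Nat.pow_le_pow_right (by norm_num)
          (Nat.le_of_not_lt hcon)))] at hbit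
        exact Bool.false_ne_true hbit
      have h2 : toMat n A ⟨p / n, Nat.div_lt_of_lt_mul hpn⟩ ⟨p % n, Nat.mod_lt _ hn⟩ = 1 := by
        rw [toMat_apply]
        show bz (A.testBit (n * (p / n) + p % n)) = 1
        rw [Nat.div_add_mod, hbit]
        rfl
      have h3 := rank_step (toMat n A) _ _ h2
      rw [← toMat_rstep hn hpn, ih _ _ (rstep_lt hn hA _) h] at h3
      exact h3.symm

/-- Check of the rank. -/
def okr (n A r P : ℕ) : Bool :=
  force A fun A => force (msk n) fun m => Nat.ble (Nat.succ A) (Nat.pow 2 (Nat.mul n n)) &&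
    rkAux n m r A P

theorem rk_eq {n A r P : ℕ} (hn : 0 < n) (h : okr n A r P = true) : (toMat n A).rank = r := by
  unfold okr at h
  rw [force_eq, force_eq, Bool.and_eq_true] at h
  exact rkAux_rank hn r A P (Nat.le_of_ble_eq_true h.1) h.2

end Cfsg.Agent.H761.F2RankFn
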