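import Cfsg.Agent.H723.Spor.JFour
import Cfsg.Agent.H492.IMTools3
import Cfsg.Agent.H672.SC
import Cfsg.Agent.H593.IMPairs
import Cfsg.Agent.H593.IMSporTwo
import Cfsg.Agent.H856.SylowThree
import Cfsg.Agent.H857.Duad
import Cfsg.Agent.TypeM.ResidA

/-!
# Itô-Michler for `J4`: the primes `3`, `11` and the primes `≥ 23` (helper761)
-/

set_option autoImplicit false

open Cfsg Subgroup

namespace Cfsg.Agent.H761.IMJFour

open Cfsg.Agent.H33 Cfsg.Agent.H858.FixJ4 Cfsg.Agent.H858.VK

/-! ### The primes `≥ 23` -/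

theorem im_big {p : ℕ} (hp : p = 23 ∨ p = 29 ∨ p = 31 ∨ p = 37 ∨ p = 43) : IM p Spor.J4 := by
  have : Fact p.Prime := ⟨H723.Spor.JFour.prime_big hp⟩
  refine H492.IMTools.IM_of_hasDZ (H723.Spor.JFour.dz_big hp) ?_
  rw [card_J4]
  rcases hp with rfl | rfl | rfl | rfl | rfl <;> norm_num

/-! ### The prime `11` -/

section inv

variable {G : Type*} [Group G] [Finite G]

/-- An element of order 2 normalizing but not centralizing a subgroup of prime order inverts it. -/
theorem inverts {p : ℕ} [hp : Fact p.Prime] {g t : G} (hg : orderOf g = p) (ht : t * t = 1)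
    (hn : t * g * t⁻¹ ∈ zpowers g) (hc : t * g ≠ g * t) : t * g * t⁻¹ = g⁻¹ := by
  classical
  obtain ⟨k, hk, hk2⟩ := Finset.mem_image.1 (mem_zpowers_iff_mem_range_orderOf.1 hn)
  have hti : t⁻¹ = t := inv_eq_of_mul_eq_one_left ht
  have h1 : t * (g ^ k) * t⁻¹ = g := by
    rw [hk2, hti]
    calc t * (t * g * t) * t = (t * t) * g * (t * t) := by group
      _ = g := by rw [ht]; group
  have h2 : t * (g ^ k) * t⁻¹ = g ^ (k * k) := by
    rw [← conj_pow, ← hk2, ← pow_mul]
  rw [h2] at h1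
  have h3 : g ^ (k * k) = g ^ 1 := by rw [h1, pow_one]
  rw [pow_eq_pow_iff_modEq, hg] at h3
  have h4 : (p : ℤ) ∣ ((k : ℤ) - 1) * (k + 1) := by
    have h5 := (Nat.modEq_iff_dvd.1 h3.symm)
    push_cast at h5
    have e : ((k : ℤ) - 1) * (k + 1) = k * k - 1 := by ring
    rw [e]
    exact h5
  rcases (Nat.prime_iff_prime_int.1 hp.out).dvd_or_dvd h4 with h5 | h5
  · exfalso
    apply hc
    have h6 : k ≡ 1 [MOD p] := (Nat.modEq_iff_dvd.2 (by push_cast; exact h5)).symm
    have h7 : g ^ k = g ^ 1 := by rw [pow_eq_pow_iff_modEq, hg]; exact h6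
    rw [h7, pow_one] at hk2
    rw [eq_mul_inv_iff_mul_eq] at hk2
    exact hk2.symm
  · rw [← hk2]
    symm
    rw [inv_eq_iff_mul_eq_one, ← pow_succ']
    apply orderOf_dvd_iff_pow_eq_one.1
    rw [hg]
    exact_mod_cast h5

end inv

theorem im_11 : IM 11 Spor.J4 := by
  have : Fact (Nat.Prime 11) := ⟨by norm_num⟩
  have h43 : Fact (Nat.Prime 43) := ⟨by norm_num⟩
  obtain ⟨g, hg⟩ := exists_prime_orderOf_dvd_card' (G := Spor.J4) 43 (by rw [card_J4]; norm_num)
  have hP : Nat.card (zpowers g) = 43 := by rw [Nat.card_zpowers, hg]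
  obtain ⟨hC, hN⟩ := H859.BigNum.data43 hP
  have hCg := H723.Spor.JFour.cent_big (p := 43) (by simp) hg
  obtain ⟨⟨t, htN⟩, ht⟩ := exists_prime_orderOf_dvd_card' (G := normalizer ((zpowers g : Subgroup Spor.J4) : Set Spor.J4)) 2
    (by rw [hN]; norm_num)
  rw [orderOf_mk] at ht
  have htt : t * t = 1 := by rw [← pow_two, ← ht, pow_orderOf_eq_one]
  have hinv : t * g * t⁻¹ = g⁻¹ := by
    refine inverts hg htt ((mem_normalizer_iff.1 htN g).1 (mem_zpowers g)) fun h => ?_
    have h1 : t ∈ centralizer ({g} : Set Spor.J4) := mem_centralizer_singleton_iff.2 h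
    have h2 : 2 ∣ 43 := by
      rw [← hCg, ← ht, ← orderOf_mk t h1]
      exact orderOf_dvd_natCard _
    norm_num at h2
  refine H672.SC.IM.of_inverted (p := 11) (k := 3) htt hinv ?_ ?_ ?_ ?_
  · rw [hCg]; decide
  · rw [hCg]; norm_num
  · rw [card_J4]; norm_num
  · intro h
    have h1 : ¬ 11 ^ 2 ∣ Nat.card (centralizer ({t} : Set Spor.J4)) := H859.CentC.not_sq_invol ht
    have h2 : 11 ^ (2 * 2 - 1) ∣ Nat.card (centralizer ({t} : Set Spor.J4)) ^ 2 := h
    set n := Nat.card (centralizer ({t} : Set Spor.J4)) with hn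
    have hn0 : n ≠ 0 := Nat.card_pos.ne'
    have h3 : (n.factorization 11) < 2 := by
      by_contra hcon
      exact h1 ((this.out.pow_dvd_iff_le_factorization hn0).2 (by omega))
    have h4 := (this.out.pow_dvd_iff_le_factorization (pow_ne_zero 2 hn0)).1 h
    rw [Nat.factorization_pow] at h4
    simp only [Finsupp.smul_apply, smul_eq_mul] at h4
    omega

/-! ### The prime `3` -/

/-- **A criterion.** `u` an involution with `p` dividing its class size, `D` an abelian `p`-subgroup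
commuting with `u` and containing all the `p`-elements which commute with it. -/
theorem IM_of_self_cent {G : Type*} [Group G] [Finite G] {p : ℕ} [hp : Fact p.Prime] (hp2 : p ≠ 2)
    (D : Subgroup G) (hD : IsPGroup p D) {u : G} (hu : u * u = 1)
    (hd : p ∣ (centralizer ({u} : Set G)).index) (hDu : ∀ d ∈ D, d * u = u * d)
    (hDD : ∀ w : G, (∃ k : ℕ, orderOf w = p ^ k) → (∀ d ∈ D, d * w = w * d) → w ∈ D) : IM p G := by
  refine H593.IMPairs.IM_of_pairs_fixed (s := u) (y := u) D hD hd hDu ?_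
  have h1 : Nat.card {a : G // a ∈ H593.IMPairs.Prs p u u ∧ ∀ d ∈ D, d * a = a * d} = 1 := by
    rw [Nat.card_eq_one_iff_unique]
    have key : ∀ a : G, a ∈ H593.IMPairs.Prs p u u → (∀ d ∈ D, d * a = a * d) → a = u := by
      rintro a ⟨hua, k, hk⟩ had
      have haa : a * a = 1 := by
        obtain ⟨c, rfl⟩ := isConj_iff.1 hua
        calc c * u * c⁻¹ * (c * u * c⁻¹) = c * (u * u) * c⁻¹ := by group
          _ = 1 := by rw [hu]; group
      have hw : a * u ∈ D := hDD _ ⟨k, hk⟩ fun d hd => by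
        rw [← mul_assoc, had d hd, mul_assoc, hDu d hd, mul_assoc]
      have h2 : a * u * u = u * (a * u) := hDu _ hw
      have h3 : (a * u) * (a * u) = 1 := by
        have h4 : a = u * (a * u) := by rw [← h2, mul_assoc, hu, mul_one]
        calc (a * u) * (a * u) = a * (u * (a * u)) := by group
          _ = a * a := by rw [← h4]
          _ = 1 := haa
      have h4 : orderOf (a * u) ∣ 2 := orderOf_dvd_of_pow_eq_one (by rw [pow_two]; exact h3)
      rw [hk] at h4
      rcases Nat.eq_zero_or_pos k with rfl | hk0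
      · rw [pow_zero, orderOf_eq_one_iff] at hk
        have h5 : a = u⁻¹ := eq_inv_of_mul_eq_one_left hk
        rw [h5, inv_eq_iff_mul_eq_one, hu]
      · have h5 : p ∣ 2 := (dvd_pow_self p hk0.ne').trans h4
        exact absurd ((Nat.prime_dvd_prime_iff_eq hp.out Nat.prime_two).1 h5) hp2
    refine ⟨⟨fun a b => Subtype.ext ?_⟩, ⟨⟨u, ⟨IsConj.refl u, 0, ?_⟩, hDu⟩⟩⟩
    · rw [key a a.2.1 a.2.2, key b b.2.1 b.2.2]
    · rw [hu, orderOf_one, pow_zero]
  rw [h1]
  exact hp.out.one_lt.ne' ∘ Nat.dvd_one.1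

/-- An abelian subgroup and an element commuting with it. -/
theorem comm_sup {G : Type*} [Group G] {D : Subgroup G} (hD : ∀ a ∈ D, ∀ b ∈ D, a * b = b * a) {w : G}
    (hw : ∀ d ∈ D, d * w = w * d) : ∀ a ∈ D ⊔ zpowers w, ∀ b ∈ D ⊔ zpowers w, a * b = b * a := by
  have h1 : D ⊔ zpowers w ≤ centralizer (((D ⊔ zpowers w : Subgroup G)) : Set G) := by
    rw [sup_le_iff]
    constructor
    · intro d hd
      rw [mem_centralizer_iff]
      intro b hb
      have h2 : D ⊔ zpowers w ≤ centralizer ({d} : Set G) := by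
        rw [sup_le_iff, zpowers_le]
        exact ⟨fun e he => mem_centralizer_singleton_iff.2 (hD e he d hd),
          mem_centralizer_singleton_iff.2 (hw d hd).symm⟩
      exact mem_centralizer_singleton_iff.1 (h2 hb)
    · rw [zpowers_le, mem_centralizer_iff]
      intro b hb
      have h2 : D ⊔ zpowers w ≤ centralizer ({w} : Set G) := by
        rw [sup_le_iff, zpowers_le]
        exact ⟨fun e he => mem_centralizer_singleton_iff.2 (hw e he), mem_centralizer_singleton_iff.2 rfl⟩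
      exact mem_centralizer_singleton_iff.1 (h2 hb)
  intro a ha b hb
  exact (mem_centralizer_iff.1 (h1 ha) b hb).symm

/-- If the Sylow `p`-subgroups have order `p ^ 3` and are not abelian, the `p`-elements commuting with a
subgroup of order `p ^ 2` belong to it. -/
theorem mem_of_comm {G : Type*} [Group G] [Finite G] {p : ℕ} [hp : Fact p.Prime] (S : Sylow p G)
    (hScard : Nat.card (S : Subgroup G) = p ^ 3)
    (hS : ∃ a ∈ (S : Subgroup G), ∃ b ∈ (S : Subgroup G), a * b ≠ b * a) {D : Subgroup G}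
    (hDcard : Nat.card D = p ^ 2) {w : G} (hw : ∃ k : ℕ, orderOf w = p ^ k)
    (hDw : ∀ d ∈ D, d * w = w * d) : w ∈ D := by
  obtain ⟨k, hk⟩ := hw
  have hDab : ∀ a ∈ D, ∀ b ∈ D, a * b = b * a := by
    have h1 := IsPGroup.isMulCommutative_of_card_eq_prime_sq (p := p) hDcard
    intro a ha b hb
    exact congrArg Subtype.val (h1.is_comm.comm (⟨a, ha⟩ : D) ⟨b, hb⟩)
  have hDp : IsPGroup p D := IsPGroup.of_card hDcard
  by_contra hwD
  have hab := comm_sup hDab hDw
  have hPp : IsPGroup p (D ⊔ zpowers w : Subgroup G) := by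
    refine hDp.to_sup_of_normal_right' ?_ ?_
    · exact IsPGroup.of_card (n := k) (by rw [Nat.card_zpowers, hk])
    · refine le_trans ?_ (centralizer_le_normalizer _)
      intro d hd
      rw [mem_centralizer_iff]
      intro y hy
      exact (hab y ((le_sup_right : zpowers w ≤ D ⊔ zpowers w) hy) d
        ((le_sup_left : D ≤ D ⊔ zpowers w) hd))
  obtain ⟨Q, hQ⟩ := hPp.exists_le_sylow
  obtain ⟨g, hg⟩ := MulAction.exists_smul_eq G Q S
  have hQcard : Nat.card (Q : Subgroup G) = p ^ 3 := by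
    rw [← hScard]
    exact Nat.card_congr (Q.equiv S).toEquiv
  have h27 : Nat.card (D ⊔ zpowers w : Subgroup G) = p ^ 3 := by
    have h1 : Nat.card (D ⊔ zpowers w : Subgroup G) ∣ p ^ 3 := by
      have := card_dvd_of_le hQ
      rw [hQcard] at this
      exact this
    obtain ⟨j, hj, hj2⟩ := (Nat.dvd_prime_pow hp.out).1 h1
    have h2 : Nat.card D < Nat.card (D ⊔ zpowers w : Subgroup G) := by
      refine lt_of_le_of_ne (Nat.le_of_dvd Nat.card_pos (card_dvd_of_le le_sup_left)) fun h => hwD ?_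
      have h3 : D = D ⊔ zpowers w := Subgroup.eq_of_le_of_card_ge le_sup_left h.ge
      rw [h3]
      exact (le_sup_right : zpowers w ≤ D ⊔ zpowers w) (mem_zpowers w)
    rw [hDcard, hj2] at h2
    have h3 := (Nat.pow_lt_pow_iff_right hp.out.one_lt).1 h2
    have h4 : j = 3 := by omega
    rw [hj2, h4]
  have hQe : (D ⊔ zpowers w : Subgroup G) = Q :=
    Subgroup.eq_of_le_of_card_ge hQ (by rw [h27, hQcard])
  obtain ⟨a, ha, b, hb, hne⟩ := hS
  rw [← hg, Sylow.coe_subgroup_smul] at ha hb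
  obtain ⟨a', ha', rfl⟩ := ha
  obtain ⟨b', hb', rfl⟩ := hb
  apply hne
  have h4 := hab a' (by rw [hQe]; exact ha') b' (by rw [hQe]; exact hb')
  calc g * a' * g⁻¹ * (g * b' * g⁻¹) = g * (a' * b') * g⁻¹ := by group
    _ = g * (b' * a') * g⁻¹ := by rw [h4]
    _ = g * b' * g⁻¹ * (g * a' * g⁻¹) := by group

/-- The criterion for nonabelian Sylow subgroups of order `p ^ 3`. -/
theorem IM_of_cube {G : Type*} [Group G] [Finite G] {p : ℕ} [hp : Fact p.Prime] (hp2 : p ≠ 2) (S : Sylow p G)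
    (hScard : Nat.card (S : Subgroup G) = p ^ 3)
    (hS : ∃ a ∈ (S : Subgroup G), ∃ b ∈ (S : Subgroup G), a * b ≠ b * a) {u : G} (hu : u * u = 1)
    (h9 : p ^ 2 ∣ Nat.card (centralizer ({u} : Set G)))
    (hd : p ∣ (centralizer ({u} : Set G)).index) : IM p G := by
  obtain ⟨D', hD'⟩ := Sylow.exists_subgroup_card_pow_prime p h9
  have hDcard : Nat.card (D'.map (centralizer ({u} : Set G)).subtype) = p ^ 2 := by
    rw [← hD']
    exact Nat.card_congr (D'.equivMapOfInjective _ (subtype_injective _)).toEquiv.symm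
  refine IM_of_self_cent hp2 (D'.map (centralizer ({u} : Set G)).subtype) (IsPGroup.of_card hDcard) hu hd ?_
    fun w hw hDw => mem_of_comm S hScard hS hDcard hw hDw
  rintro _ ⟨d, -, rfl⟩
  exact mem_centralizer_singleton_iff.1 d.2

theorem im_3 : IM 3 Spor.J4 := by
  have h3f : Fact (Nat.Prime 3) := ⟨Nat.prime_three⟩
  obtain ⟨-, -, ⟨F⟩⟩ := KFacts.J4.Base.exists_full (K := Cfsg.Spor.J4) ⟨MulEquiv.refl _⟩
  obtain ⟨V, K, hV, hK, hVc, hVe, hVcard, hinf, hsup, ⟨eK⟩⟩ :=
    H857.Duad.cent_duad F.C (F.C.ε {none, some 0}) ⟨1, by simp⟩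
  have h0 : (none : GolayPt) ≠ some 0 := by decide
  have hH := J4Type.FusionConj.isHex_hex0
  have huu : F.C.ε {none, some 0} * F.C.ε {none, some 0} = 1 :=
    (F.C.E_elem J4Type.hex0 hH).1 _ (F.C.ε_mem _ (by rw [Finset.card_pair h0]; decide))
  have hcard : Nat.card (centralizer ({F.C.ε {none, some 0}} : Set Spor.J4)) = 2 ^ 11 * 887040 := by
    have h1 := TypeM.ResidA.card_sup_mul (K := V) (H := K) (hK.trans hVc)
    rw [sup_comm, hsup, inf_comm, hinf, Subgroup.card_bot, mul_one, hVcard, Nat.card_congr eK.toEquiv,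
      H856.AutM22.card_aut] at h1
    exact h1
  obtain ⟨S, hS⟩ := H856.SylowThree.exists_sylow F.C
  refine IM_of_cube (by norm_num) S ?_ ?_ huu (by rw [hcard]; norm_num) ?_
  · rw [hS]; exact H856.SylowThree.card_R1 F.C
  · rw [hS]; exact H856.SylowThree.not_comm_R1 F.C
  · have h1 := (centralizer ({F.C.ε {none, some 0}} : Set Spor.J4)).card_mul_index
    rw [hcard, card_J4] at h1
    omega

end Cfsg.Agent.H761.IMJFour
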