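import Cfsg.Agent.H761.IMJFourA
import Cfsg.Agent.H761.Ext8
import Cfsg.Agent.H540.SmallSym
import Cfsg.Agent.H858.Loc5

/-!
# Itô-Michler for `J4`: the centralizers of the elements of order `5` and `7` (helper761)

* `numCls_le_card` : `C_G(P) = P × J` with `P` a `p`-group and `J` a `p'`-group.
* `numCls_five`, `numCls_seven`.
-/

set_option autoImplicit false

open Cfsg Subgroup

namespace Cfsg.Agent.H761.IMJFour

open Cfsg.Agent.H33 Cfsg.Agent.H858.FixJ4 Cfsg.Agent.H858.VK Cfsg.Agent.H593.IMCyc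
open Cfsg.Agent.H713.Count

universe u

theorem exists_mul_of_idp {G : Type*} [Group G] {A B C : Subgroup G} (h : IsInternalDirectProduct A B C) {c : G}
    (hc : c ∈ C) : ∃ a ∈ A, ∃ b ∈ B, c = a * b := by
  obtain ⟨-, -, hcomm, -, hsup⟩ := h
  rw [← hsup] at hc
  have hcm : ∀ (a : A) (b : B), Commute (A.subtype a) (B.subtype b) := fun a b => hcomm a a.2 b b.2
  have hle : A ⊔ B ≤ (MonoidHom.noncommCoprod A.subtype B.subtype hcm).range := by
    refine sup_le ?_ ?_
    · intro x hx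
      exact ⟨(⟨x, hx⟩, 1), by simp⟩
    · intro x hx
      exact ⟨(1, ⟨x, hx⟩), by simp⟩
  obtain ⟨⟨a, b⟩, hab⟩ := hle hc
  exact ⟨a, a.2, b, b.2, by rw [← hab]; simp⟩

theorem numCls_le_card {G : Type u} [Group G] [Finite G] {p : ℕ} [hp : Fact p.Prime] {P J : Subgroup G}
    (hP : IsPGroup p P) (hJ : ¬ p ∣ Nat.card J)
    (h : IsInternalDirectProduct P J (centralizer (P : Set G))) :
    numCls p P ≤ Nat.card (ConjClasses J) := by
  classical
  have := Fintype.ofFinite (ConjClasses J)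
  rw [Nat.card_eq_fintype_card]
  have hJC := h.2.1
  choose t ht using fun A : ConjClasses J => ConjClasses.exists_rep A
  refine numCls_le P (fun A => inclusion hJC (t A)) fun c hc => ?_
  obtain ⟨a, ha, b, hb, hab⟩ := exists_mul_of_idp h c.2
  have hcomm : Commute a b := h.2.2.1 a ha b hb
  -- `a = 1`
  have ha1 : a = 1 := by
    obtain ⟨k, hk⟩ := (IsPGroup.iff_orderOf.1 hP) ⟨a, ha⟩
    rw [Subgroup.orderOf_mk] at hk
    have h1 : a ^ (orderOf c * Nat.card J) = 1 := by
      have h2 : (c : G) ^ (orderOf c * Nat.card J) = 1 := by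
        rw [pow_mul, ← Subgroup.coe_pow, pow_orderOf_eq_one, Subgroup.coe_one, one_pow]
      have h3 : b ^ (orderOf c * Nat.card J) = 1 := by
        have h4 : (⟨b, hb⟩ : J) ^ Nat.card J = 1 := pow_card_eq_one'
        have h5 : b ^ Nat.card J = 1 := congrArg Subtype.val h4
        rw [mul_comm, pow_mul, h5, one_pow]
      rw [hab, hcomm.mul_pow, h3, mul_one] at h2
      exact h2
    have h2 := orderOf_dvd_of_pow_eq_one h1
    rw [hk] at h2
    rcases Nat.eq_zero_or_pos k with rfl | hk0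
    · rw [pow_zero, orderOf_eq_one_iff] at hk
      exact hk
    · exfalso
      rcases (hp.out.dvd_mul).1 ((dvd_pow_self p hk0.ne').trans h2) with h3 | h3
      · exact hc h3
      · exact hJ h3
  refine ⟨ConjClasses.mk ⟨b, hb⟩, ?_⟩
  have h1 := ht (ConjClasses.mk ⟨b, hb⟩)
  rw [ConjClasses.mk_eq_mk_iff_isConj] at h1
  have h2 : inclusion hJC ⟨b, hb⟩ = c := Subtype.ext (by rw [hab, ha1, one_mul]; rfl)
  rw [← h2]
  exact MonoidHom.map_isConj (inclusion hJC) h1

/-! ### `p = 7` -/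

theorem numCls_S7 : numCls 7 Cfsg.Agent.H858.Norm57.S7 ≤ 7 := by
  have : Fact (Nat.Prime 7) := ⟨by norm_num⟩
  refine (numCls_le_card (p := 7) H858.Norm57.isPGroup_S7 ?_ H858.Loc7.directProduct).trans ?_
  · rw [H858.Loc7.card_I0]; norm_num
  · obtain ⟨e⟩ := H858.Loc7.equiv_I0
    refine le_trans ?_ H540.SmallSym.card_conjClasses_five
    refine Nat.card_le_card_of_injective (ConjClasses.map e.toMonoidHom) ?_
    intro A B hAB
    obtain ⟨a, rfl⟩ := ConjClasses.exists_rep A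
    obtain ⟨b, rfl⟩ := ConjClasses.exists_rep B
    have h1 : IsConj (e a) (e b) := ConjClasses.mk_eq_mk_iff_isConj.1 hAB
    rw [ConjClasses.mk_eq_mk_iff_isConj]
    have h2 := MonoidHom.map_isConj e.symm.toMonoidHom h1
    have h3 : IsConj (e.symm (e a)) (e.symm (e b)) := h2
    rwa [e.symm_apply_apply, e.symm_apply_apply] at h3

/-! ### `p = 5` -/

theorem card_classes_J : Nat.card (ConjClasses Cfsg.Agent.H858.Loc5.J) ≤ 11 := by
  refine Ext8.card_conjClasses_le (Z := H858.Loc7.Z) (fun z => Subtype.ext (H858.Loc7.oct_Z.sq z z.2))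
    H858.Loc7.card_Z H858.Loc5.card_J (inclusion H858.Loc5.Z_le_J) (inclusion_injective _) H858.Loc5.πJ ?_ ?_
  · intro x z
    apply Subtype.ext
    rfl
  · intro x hx
    have h1 : x ∈ H858.Loc5.πJ.ker := hx
    rw [H858.Loc5.ker_πJ, mem_subgroupOf] at h1
    exact ⟨⟨x, h1⟩, rfl⟩

theorem numCls_F5 : numCls 5 Cfsg.Agent.H858.Loc5.F5 ≤ 11 := by
  have : Fact (Nat.Prime 5) := ⟨by norm_num⟩
  refine (numCls_le_card (p := 5) (IsPGroup.of_card (n := 1) (by rw [H858.Loc5.card_F5, pow_one])) ?_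
    H858.Loc5.directProduct).trans card_classes_J
  rw [H858.Loc5.card_J]; norm_num

end Cfsg.Agent.H761.IMJFour
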