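import Cfsg.Agent.H761.Blocks

/-!
# The affine plane inside `p` blocks (helper761)

Blocks indexed by `ZMod p ⊕ J`. The first `p` blocks form the plane `ZMod p × ZMod p`.

* `V1 ι` : the translations of the plane times the base group of the other blocks, self-centralising (`cent_V1`);
* `R1 ι` : the base group and the cyclic shift of the first `p` blocks;
* `tt a` : `(x, z) ↦ (a⁻¹ x, a z)`, a product of `xx b` : `(x, z) ↦ (x, z + b x)` and their conjugates under the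
  rotation `ww`.
-/

set_option autoImplicit false

namespace Cfsg.Agent.H761

open Equiv Equiv.Perm Cfsg.Agent.H761.Frame Cfsg.Agent.H802

variable {J α : Type*} {p : ℕ}

/-- translations of the plane -/
def tp (w : ZMod p × ZMod p) : Perm (ZMod p × ZMod p) := Equiv.addRight w

def xx (b : ZMod p) : Perm (ZMod p × ZMod p) := Equiv.prodShear (Equiv.refl _) (fun x => Equiv.addRight (b * x))

def yy (b : ZMod p) : Perm (ZMod p × ZMod p) where
  toFun x := (x.1 + b * x.2, x.2)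
  invFun x := (x.1 - b * x.2, x.2)
  left_inv x := by simp
  right_inv x := by simp

def ww : Perm (ZMod p × ZMod p) where
  toFun x := (-x.2, x.1)
  invFun x := (x.2, -x.1)
  left_inv x := by simp
  right_inv x := by simp

def tt (a : (ZMod p)ˣ) : Perm (ZMod p × ZMod p) :=
  Equiv.prodCongr (Units.mulLeft a⁻¹) (Units.mulLeft a)

@[simp] theorem tp_apply (w x : ZMod p × ZMod p) : tp w x = x + w := rfl
@[simp] theorem xx_apply (b : ZMod p) (x : ZMod p × ZMod p) : xx b x = (x.1, x.2 + b * x.1) := rfl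
@[simp] theorem yy_apply (b : ZMod p) (x : ZMod p × ZMod p) : yy b x = (x.1 + b * x.2, x.2) := rfl
@[simp] theorem ww_apply (x : ZMod p × ZMod p) : ww x = (-x.2, x.1) := rfl
@[simp] theorem ww_inv_apply (x : ZMod p × ZMod p) : (ww⁻¹ : Perm (ZMod p × ZMod p)) x = (x.2, -x.1) := rfl
@[simp] theorem tt_apply (a : (ZMod p)ˣ) (x : ZMod p × ZMod p) :
    tt a x = (((a⁻¹ : (ZMod p)ˣ) : ZMod p) * x.1, (a : ZMod p) * x.2) := rfl

theorem yy_eq (b : ZMod p) : yy b = ww * xx (-b) * ww⁻¹ := by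
  ext1 x
  simp only [yy_apply, mul_apply, ww_inv_apply, xx_apply, ww_apply]
  ext
  · show x.1 + b * x.2 = -(-x.1 + -b * x.2)
    ring
  · rfl

theorem ww_eq : (ww : Perm (ZMod p × ZMod p)) = xx 1 * yy (-1) * xx 1 := by
  ext1 x
  simp only [yy_apply, mul_apply, xx_apply, ww_apply]
  ext
  · show -x.2 = x.1 + -1 * (x.2 + 1 * x.1)
    ring
  · show x.1 = x.2 + 1 * x.1 + 1 * (x.1 + -1 * (x.2 + 1 * x.1))
    ring

theorem tt_eq (a : (ZMod p)ˣ) : tt a = xx a * yy (-((a⁻¹ : (ZMod p)ˣ) : ZMod p)) * xx a * ww⁻¹ := by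
  have h : ((a⁻¹ : (ZMod p)ˣ) : ZMod p) * (a : ZMod p) = 1 := by simp
  ext1 x
  simp only [yy_apply, mul_apply, xx_apply, tt_apply, ww_inv_apply]
  ext
  · show ((a⁻¹ : (ZMod p)ˣ) : ZMod p) * x.1 = x.2 + -((a⁻¹ : (ZMod p)ˣ) : ZMod p) * (-x.1 + a * x.2)
    linear_combination x.2 * h
  · show (a : ZMod p) * x.2 = -x.1 + a * x.2 + a * (x.2 + -((a⁻¹ : (ZMod p)ˣ) : ZMod p) * (-x.1 + a * x.2))
    linear_combination (a * x.2 - x.1) * h

theorem conj_tp {g : Perm (ZMod p × ZMod p)} (hg : ∀ x y, g (x + y) = g x + g y) (w : ZMod p × ZMod p) :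
    g * tp w * g⁻¹ = tp (g w) := by
  rw [mul_inv_eq_iff_eq_mul]
  ext1 x
  simp [hg]

theorem xx_add (b : ZMod p) (x y : ZMod p × ZMod p) : xx b (x + y) = xx b x + xx b y := by
  ext
  · rfl
  · show x.2 + y.2 + b * (x.1 + y.1) = x.2 + b * x.1 + (y.2 + b * y.1)
    ring

theorem ww_add (x y : ZMod p × ZMod p) : ww (x + y) = ww x + ww y := by
  ext
  · show -(x.2 + y.2) = -x.2 + -y.2
    ring
  · rfl

theorem tt_add (a : (ZMod p)ˣ) (x y : ZMod p × ZMod p) : tt a (x + y) = tt a x + tt a y := by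
  ext
  · show ((a⁻¹ : (ZMod p)ˣ) : ZMod p) * (x.1 + y.1) = _ * x.1 + _ * y.1
    ring
  · show (a : ZMod p) * (x.2 + y.2) = _ * x.2 + _ * y.2
    ring

/-- the plane in the first `p` blocks -/
def kap (J : Type*) (p : ℕ) : ZMod p × ZMod p ↪ (ZMod p ⊕ J) × ZMod p :=
  ⟨fun x => (Sum.inl x.1, x.2), by
    rintro ⟨a, b⟩ ⟨c, d⟩ h
    simpa using h⟩

theorem kap_apply (x : ZMod p × ZMod p) : kap J p x = (Sum.inl x.1, x.2) := rfl

theorem not_mem_kap (j : J) (z : ZMod p) : ((Sum.inr j : ZMod p ⊕ J), z) ∉ Set.range (kap J p) := by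
  rintro ⟨⟨a, b⟩, h⟩
  exact Sum.inl_ne_inr (congrArg Prod.fst h)

/-- the shifts of the first `p` blocks -/
def sh (J : Type*) {p : ℕ} (y : ZMod p) : Perm (ZMod p ⊕ J) := Equiv.sumCongr (Equiv.addRight y) (Equiv.refl J)

/-- the multiplications of the first `p` blocks -/
def mu (J : Type*) {p : ℕ} (a : (ZMod p)ˣ) : Perm (ZMod p ⊕ J) := Equiv.sumCongr (Units.mulLeft a) (Equiv.refl J)

@[simp] theorem sh_inl (y x : ZMod p) : sh J y (Sum.inl x) = Sum.inl (x + y) := rfl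
@[simp] theorem sh_inr (y : ZMod p) (j : J) : sh J y (Sum.inr j) = Sum.inr j := rfl
@[simp] theorem mu_inl (a : (ZMod p)ˣ) (x : ZMod p) : mu J a (Sum.inl x) = Sum.inl (a * x) := rfl
@[simp] theorem mu_inr (a : (ZMod p)ˣ) (j : J) : mu J a (Sum.inr j) = Sum.inr j := rfl

theorem sh_add (x y : ZMod p) : sh J (x + y) = sh J x * sh J y := by
  ext1 i
  rcases i with i | i
  · rw [mul_apply, sh_inl, sh_inl, sh_inl, add_assoc, add_comm y]
  · rfl

theorem sh_zero : sh J (0 : ZMod p) = 1 := by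
  ext1 i
  rcases i with i | i
  · rw [sh_inl, add_zero]; rfl
  · rfl

/-- the group of shifts -/
def shQ (J : Type*) (p : ℕ) : Subgroup (Perm (ZMod p ⊕ J)) where
  carrier := Set.range (sh J)
  mul_mem' := by
    rintro _ _ ⟨x, rfl⟩ ⟨y, rfl⟩
    exact ⟨x + y, sh_add x y⟩
  one_mem' := ⟨0, sh_zero⟩
  inv_mem' := by
    rintro _ ⟨x, rfl⟩
    exact ⟨-x, by rw [eq_inv_iff_mul_eq_one, ← sh_add, neg_add_cancel, sh_zero]⟩

theorem sh_mem (y : ZMod p) : sh J y ∈ shQ J p := ⟨y, rfl⟩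

theorem sh_nsmul (y : ZMod p) (k : ℕ) : sh J (k • y) = sh J y ^ k := by
  induction k with
  | zero => rw [zero_smul, sh_zero, pow_zero]
  | succ k ih => rw [succ_nsmul, sh_add, ih, pow_succ]

theorem isPGroup_shQ : IsPGroup p (shQ J p) := by
  rintro ⟨_, y, rfl⟩
  refine ⟨1, Subtype.ext ?_⟩
  show sh J y ^ p ^ 1 = 1
  rw [pow_one, ← sh_nsmul]
  simp [sh_zero]

theorem T_kap_xx (b : ZMod p) :
    T (kap J p) (xx b) = tr (Sum.elim (fun x => b * x) (fun _ : J => (0 : ZMod p))) := by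
  symm
  apply T_ext
  · intro x
    rw [tr_apply]
    rfl
  · rintro ⟨i | j, z⟩ hy
    · exact absurd ⟨(i, z), rfl⟩ hy
    · rw [tr_apply]
      simp

theorem T_kap_tp (w : ZMod p × ZMod p) :
    T (kap J p) (tp w) = tr (Sum.elim (fun _ => w.2) (fun _ : J => (0 : ZMod p))) * bl (sh J w.1) := by
  symm
  apply T_ext
  · intro x
    rw [mul_apply, tr_apply]
    rfl
  · rintro ⟨i | j, z⟩ hy
    · exact absurd ⟨(i, z), rfl⟩ hy
    · rw [mul_apply, tr_apply]
      simp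

theorem T_kap_tt (a : (ZMod p)ˣ) :
    T (kap J p) (tt a) = sc (Sum.elim (fun _ => a) (fun _ : J => (1 : (ZMod p)ˣ))) * bl (mu J a⁻¹) := by
  symm
  apply T_ext
  · intro x
    rw [mul_apply, sc_apply]
    rfl
  · rintro ⟨i | j, z⟩ hy
    · exact absurd ⟨(i, z), rfl⟩ hy
    · rw [mul_apply, sc_apply]
      simp

/-- elements of the plane commute with the translations of the other blocks -/
theorem T_kap_comm (g : Perm (ZMod p × ZMod p)) {f : ZMod p ⊕ J → ZMod p} (hf : ∀ x, f (Sum.inl x) = 0) :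
    T (kap J p) g * tr f = tr f * T (kap J p) g := by
  ext1 ⟨i, z⟩
  rcases i with x | j
  · have h1 : tr f ((Sum.inl x : ZMod p ⊕ J), z) = (Sum.inl x, z) := by rw [tr_apply, hf, add_zero]
    have h2 : ((Sum.inl x : ZMod p ⊕ J), z) = kap J p (x, z) := rfl
    rw [mul_apply, mul_apply, h1, h2, T_apply, kap_apply, tr_apply, hf, add_zero]
  · rw [mul_apply, mul_apply, tr_apply, T_out _ _ (not_mem_kap j _), T_out _ _ (not_mem_kap j _), tr_apply]

/-- the translations of the plane, times the base group of the other blocks -/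
def V1 (ι : (ZMod p ⊕ J) × ZMod p ↪ α) : Subgroup (Perm α) where
  carrier := {g | ∃ (w : ZMod p × ZMod p) (f : ZMod p ⊕ J → ZMod p), (∀ x, f (Sum.inl x) = 0) ∧
    g = T ι (T (kap J p) (tp w) * tr f)}
  mul_mem' := by
    rintro _ _ ⟨w, f, hf, rfl⟩ ⟨w', f', hf', rfl⟩
    refine ⟨w' + w, f + f', fun x => by rw [Pi.add_apply, hf, hf', add_zero], ?_⟩
    have h : (tp (w' + w) : Perm (ZMod p × ZMod p)) = tp w * tp w' := by
      ext1 x
      simp only [tp_apply, mul_apply, add_assoc]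
    rw [h, map_mul (T (kap J p)), tr_add, ← map_mul (T ι)]
    congr 1
    calc T (kap J p) (tp w) * tr f * (T (kap J p) (tp w') * tr f')
        = T (kap J p) (tp w) * (tr f * T (kap J p) (tp w')) * tr f' := by group
      _ = T (kap J p) (tp w) * (T (kap J p) (tp w') * tr f) * tr f' := by rw [T_kap_comm _ hf]
      _ = _ := by group
  one_mem' := ⟨0, 0, fun _ => rfl, by
    have h : (tp 0 : Perm (ZMod p × ZMod p)) = 1 := by
      ext1 x
      simp
    rw [h, map_one, tr_zero, one_mul, map_one]⟩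
  inv_mem' := by
    rintro _ ⟨w, f, hf, rfl⟩
    refine ⟨-w, -f, fun x => by rw [Pi.neg_apply, hf, neg_zero], ?_⟩
    have h : (tp (-w) : Perm (ZMod p × ZMod p)) = (tp w)⁻¹ := by
      rw [eq_inv_iff_mul_eq_one]
      ext1 x
      simp
    rw [h, map_inv, tr_neg, ← map_inv]
    congr 1
    rw [T_kap_comm _ hf, mul_inv_rev]

theorem mem_V1 {ι : (ZMod p ⊕ J) × ZMod p ↪ α} {g : Perm α} : g ∈ V1 ι ↔
    ∃ (w : ZMod p × ZMod p) (f : ZMod p ⊕ J → ZMod p), (∀ x, f (Sum.inl x) = 0) ∧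
    g = T ι (T (kap J p) (tp w) * tr f) := Iff.rfl

theorem V1_le (ι : (ZMod p ⊕ J) × ZMod p ↪ α) : V1 ι ≤ wr ι (shQ J p) := by
  rintro _ ⟨w, f, hf, rfl⟩
  rw [T_kap_comm _ hf, T_kap_tp, ← mul_assoc, ← tr_add]
  exact ⟨_, _, sh_mem _, rfl⟩

/-- linear maps of the plane normalise `V1` -/
theorem conj_V1 {ι : (ZMod p ⊕ J) × ZMod p ↪ α} {g : Perm (ZMod p × ZMod p)}
    (hg : ∀ x y, g (x + y) = g x + g y) {x : Perm α} (hx : x ∈ V1 ι) :
    T ι (T (kap J p) g) * x * (T ι (T (kap J p) g))⁻¹ ∈ V1 ι := by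
  obtain ⟨w, f, hf, rfl⟩ := hx
  refine ⟨g w, f, hf, ?_⟩
  rw [← map_inv (T ι), ← map_mul (T ι), ← map_mul (T ι), ← conj_tp hg, map_mul (T (kap J p)),
    map_mul (T (kap J p)), map_inv (T (kap J p))]
  congr 1
  have h := T_kap_comm g hf
  calc T (kap J p) g * (T (kap J p) (tp w) * tr f) * (T (kap J p) g)⁻¹
      = T (kap J p) g * T (kap J p) (tp w) * (T (kap J p) g)⁻¹ * (T (kap J p) g * tr f) * (T (kap J p) g)⁻¹ := by
        group
    _ = T (kap J p) g * T (kap J p) (tp w) * (T (kap J p) g)⁻¹ * (tr f * T (kap J p) g) * (T (kap J p) g)⁻¹ := by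
        rw [h]
    _ = _ := by group

theorem pow_sh_bl_apply (y : ZMod p) (k : ℕ) (x z : ZMod p) :
    ((bl (sh J y) : Perm ((ZMod p ⊕ J) × ZMod p)) ^ k) (Sum.inl x, z) = (Sum.inl (x + k * y), z) := by
  rw [← bl_pow, ← sh_nsmul, bl_apply]
  simp

/-- **`V1` is self-centralising.** -/
theorem cent_V1 [Fact p.Prime] [Finite J] [DecidableEq J] {ι : (ZMod p ⊕ J) × ZMod p ↪ α}
    (hout : ∀ y z : α, y ∉ Set.range ι → z ∉ Set.range ι → y = z) {g : Perm α}
    (hg : ∀ x ∈ V1 ι, g * x = x * g) : g ∈ V1 ι := by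
  have hp : p.Prime := Fact.out
  have hcomm : ∀ (w : ZMod p × ZMod p) (f : ZMod p ⊕ J → ZMod p), (∀ x, f (Sum.inl x) = 0) → ∀ y : α,
      g (T ι (T (kap J p) (tp w) * tr f) y) = T ι (T (kap J p) (tp w) * tr f) (g y) := by
    intro w f hf y
    exact congrArg (fun e : Perm α => e y) (hg _ ⟨w, f, hf, rfl⟩)
  -- the other blocks
  have h1 : ∀ j : J, ∃ b : ZMod p, g (ι (Sum.inr j, 0)) = ι (Sum.inr j, b) := by
    intro j
    have h2 := hcomm 0 (Pi.single (Sum.inr j) 1) (fun x => Pi.single_eq_of_ne (by simp) _) (ι (Sum.inr j, 0))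
    have h3 : (tp 0 : Perm (ZMod p × ZMod p)) = 1 := by
      ext1 x
      simp
    rw [h3, map_one, one_mul] at h2
    refine moved_single (u := (1 : ZMod p)) (i := (Sum.inr j : ZMod p ⊕ J)) ?_
    rw [← h2, T_apply, tr_apply]
    intro h4
    have := congrArg Prod.snd (ι.injective (g.injective h4))
    simp at this
  choose b hb using h1
  have h2 : ∀ (j : J) (z : ZMod p), g (ι (Sum.inr j, z)) = ι (Sum.inr j, z + b j) := by
    intro j z
    have h3 := hcomm 0 (Pi.single (Sum.inr j) z) (fun x => Pi.single_eq_of_ne (by simp) _) (ι (Sum.inr j, 0))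
    have h4 : (tp 0 : Perm (ZMod p × ZMod p)) = 1 := by
      ext1 x
      simp
    rw [h4, map_one, one_mul, hb, T_apply, T_apply, tr_apply, tr_apply] at h3
    simp only [Pi.single_eq_same, zero_add] at h3
    rw [h3, add_comm]
  -- the plane
  have h3 : ∃ w : ZMod p × ZMod p, g (ι (Sum.inl 0, 0)) = ι (kap J p w) := by
    have h4 := hcomm (1, 0) 0 (fun _ => rfl) (ι (Sum.inl 0, 0))
    have h0 : ((Sum.inl (0 : ZMod p) : ZMod p ⊕ J), (0 : ZMod p)) = kap J p (0, 0) := rfl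
    rw [tr_zero, mul_one] at h4
    by_contra hc
    push Not at hc
    have h5 : T ι (T (kap J p) (tp (1, 0))) (g (ι (Sum.inl 0, 0))) = g (ι (Sum.inl 0, 0)) := by
      by_cases hy : g (ι (Sum.inl 0, 0)) ∈ Set.range ι
      · obtain ⟨⟨i, z⟩, hiz⟩ := hy
        rcases i with x | j
        · exact absurd hiz.symm (hc (x, z))
        · rw [← hiz, T_apply, T_out _ _ (not_mem_kap j z)]
      · rw [T_out _ _ hy]
    rw [← h4] at h5
    have h6 := g.injective h5
    rw [T_apply, h0, T_apply] at h6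
    have h7 := (kap J p).injective (ι.injective h6)
    simp at h7
  obtain ⟨w, hw⟩ := h3
  have h4 : ∀ x : ZMod p × ZMod p, g (ι (kap J p x)) = ι (kap J p (x + w)) := by
    intro x
    have h5 := hcomm x 0 (fun _ => rfl) (ι (Sum.inl 0, 0))
    have h0 : ((Sum.inl (0 : ZMod p) : ZMod p ⊕ J), (0 : ZMod p)) = kap J p 0 := rfl
    rw [tr_zero, mul_one, hw, T_apply, h0, T_apply, T_apply, T_apply, tp_apply, tp_apply, zero_add] at h5
    rw [h5, add_comm]
  refine ⟨w, Sum.elim (fun _ => 0) b, fun _ => rfl, ?_⟩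
  apply T_ext
  · rintro ⟨i, z⟩
    rcases i with x | j
    · have h5 : ((Sum.inl x : ZMod p ⊕ J), z) = kap J p (x, z) := rfl
      rw [h5, h4, mul_apply]
      congr 1
      have h6 : tr (Sum.elim (fun _ => (0 : ZMod p)) b) (kap J p (x, z)) = kap J p (x, z) := by
        rw [tr_apply, kap_apply]
        simp
      rw [h6, T_apply, tp_apply]
    · rw [h2, mul_apply, tr_apply]
      congr 1
      rw [T_out _ _ (not_mem_kap j _)]
      rfl
  · intro y hy
    apply hout _ _ _ hy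
    rintro ⟨⟨i, z⟩, hiz⟩
    apply hy
    rcases i with x | j
    · refine ⟨kap J p ((x, z) - w), ?_⟩
      apply g.injective
      rw [h4, sub_add_cancel, ← hiz]
      rfl
    · refine ⟨(Sum.inr j, z - b j), ?_⟩
      apply g.injective
      rw [h2, sub_add_cancel, ← hiz]

/-- `tt a` normalises the wreath product `R1 = wr ι (shQ J p)` -/
theorem conj_tt_R1 (ι : (ZMod p ⊕ J) × ZMod p ↪ α) (a : (ZMod p)ˣ) {x : Perm α} (hx : x ∈ wr ι (shQ J p)) :
    T ι (T (kap J p) (tt a)) * x * (T ι (T (kap J p) (tt a)))⁻¹ ∈ wr ι (shQ J p) := by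
  obtain ⟨f, _, ⟨y, rfl⟩, rfl⟩ := hx
  set A := Sum.elim (fun _ => a) (fun _ : J => (1 : (ZMod p)ˣ)) with hA
  have h1 : T (kap J p) (tt a) * tr f * (T (kap J p) (tt a))⁻¹ =
      tr (fun i => (A i : ZMod p) * f ((mu J a⁻¹).symm i)) := by
    rw [T_kap_tt]
    have := mono_tr 0 A (mu J a⁻¹) f
    rw [tr_zero, one_mul] at this
    exact this
  have h2 : T (kap J p) (tt a) * bl (sh J y) * (T (kap J p) (tt a))⁻¹ =
      bl (sh J (((a⁻¹ : (ZMod p)ˣ) : ZMod p) * y)) := by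
    have h4 : ∀ u : ZMod p, (bl (sh J u) : Perm ((ZMod p ⊕ J) × ZMod p)) = T (kap J p) (tp (u, 0)) := by
      intro u
      rw [T_kap_tp]
      have : (Sum.elim (fun _ : ZMod p => (0 : ZMod p)) (fun _ : J => (0 : ZMod p))) = 0 := by
        funext i
        rcases i with i | i <;> rfl
      rw [this, tr_zero, one_mul]
    rw [h4, h4, ← map_inv, ← map_mul, ← map_mul, conj_tp (tt_add a), tt_apply, mul_zero]
  refine ⟨fun i => (A i : ZMod p) * f ((mu J a⁻¹).symm i), _, sh_mem (((a⁻¹ : (ZMod p)ˣ) : ZMod p) * y), ?_⟩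
  rw [← map_inv (T ι), ← map_mul (T ι), ← map_mul (T ι), ← h2, ← h1]
  congr 1
  group

end Cfsg.Agent.H761
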