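import Cfsg.Agent.H761.Frame
import Cfsg.Agent.H802.SylIn

/-!
# Sylow subgroups of symmetric and alternating groups as wreath products (helper761)

`|α| = p |I| + r`, `r < p`. For an embedding `ι : I × ZMod p ↪ α` and a Sylow `p`-subgroup `P` of `Perm I` the group
`wr ι P` of all `(i, z) ↦ (σ i, z + f i)`, `σ ∈ P`, is a Sylow `p`-subgroup of `Perm α`, and every Sylow `p`-subgroup
of `alternatingGroup α` is `(wr ι P).subgroupOf (alternatingGroup α)` for some `ι`.
-/

set_option autoImplicit false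

namespace Cfsg.Agent.H761

open Equiv Equiv.Perm Frame Cfsg.Agent.H802

variable {I α : Type*} {p : ℕ}

/-- the wreath product `ZMod p wr P` on the image of `ι` -/
def wr (ι : I × ZMod p ↪ α) (P : Subgroup (Perm I)) : Subgroup (Perm α) where
  carrier := {g | ∃ (f : I → ZMod p) (σ : Perm I), σ ∈ P ∧ g = T ι (tr f * bl σ)}
  mul_mem' := by
    rintro _ _ ⟨f, σ, hσ, rfl⟩ ⟨g, τ, hτ, rfl⟩
    refine ⟨f + g ∘ σ.symm, σ * τ, P.mul_mem hσ hτ, ?_⟩
    rw [← map_mul, tr_add, bl_mul, ← bl_tr]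
    congr 1
    group
  one_mem' := ⟨0, 1, P.one_mem, by simp⟩
  inv_mem' := by
    rintro _ ⟨f, σ, hσ, rfl⟩
    refine ⟨(-f) ∘ (σ⁻¹).symm, σ⁻¹, P.inv_mem hσ, ?_⟩
    rw [← bl_tr, tr_neg, bl_inv, ← map_inv]
    congr 1
    group

theorem mem_wr {ι : I × ZMod p ↪ α} {P : Subgroup (Perm I)} {g : Perm α} :
    g ∈ wr ι P ↔ ∃ (f : I → ZMod p) (σ : Perm I), σ ∈ P ∧ g = T ι (tr f * bl σ) := Iff.rfl

theorem tr_mem_wr (ι : I × ZMod p ↪ α) (P : Subgroup (Perm I)) (f : I → ZMod p) : T ι (tr f) ∈ wr ι P :=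
  ⟨f, 1, P.one_mem, by simp⟩

theorem bl_mem_wr (ι : I × ZMod p ↪ α) {P : Subgroup (Perm I)} {σ : Perm I} (h : σ ∈ P) :
    T ι (bl σ) ∈ wr ι P :=
  ⟨0, σ, h, by simp⟩

theorem card_wr [Fintype I] (ι : I × ZMod p ↪ α) (P : Subgroup (Perm I)) :
    Nat.card (wr ι P) = p ^ Fintype.card I * Nat.card P := by
  have e : (I → ZMod p) × P ≃ wr ι P := by
    refine Equiv.ofBijective (fun x => ⟨T ι (tr x.1 * bl x.2.1), ⟨x.1, x.2.1, x.2.2, rfl⟩⟩) ⟨?_, ?_⟩
    · rintro ⟨f, σ⟩ ⟨g, τ⟩ h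
      have h1 := T_injective ι (congrArg Subtype.val h)
      obtain ⟨h2, h3⟩ := tr_bl_injective h1
      exact Prod.ext h2 (Subtype.ext h3)
    · rintro ⟨g, f, σ, hσ, rfl⟩
      exact ⟨⟨f, σ, hσ⟩, rfl⟩
  rw [← Nat.card_congr e, Nat.card_prod, Nat.card_fun, Nat.card_zmod, Nat.card_eq_fintype_card (α := I)]

theorem wr_trans (ι : I × ZMod p ↪ α) (P : Subgroup (Perm I)) (g : Perm α) :
    wr (ι.trans g.toEmbedding) P = (wr ι P).map (MulAut.conj g).toMonoidHom := by
  ext x
  constructor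
  · rintro ⟨f, σ, hσ, rfl⟩
    exact ⟨_, ⟨f, σ, hσ, rfl⟩, by rw [T_trans]; rfl⟩
  · rintro ⟨_, ⟨f, σ, hσ, rfl⟩, rfl⟩
    exact ⟨f, σ, hσ, by rw [T_trans]; rfl⟩

section

variable [Fact p.Prime] [Fintype I] [DecidableEq I] [Fintype α] [DecidableEq α]

theorem card_perm_factorization {r : ℕ} (hr : r < p) (hα : Fintype.card α = p * Fintype.card I + r) :
    (Nat.card (Perm α)).factorization p = Fintype.card I + (Nat.card (Perm I)).factorization p := by
  have hp : p.Prime := Fact.out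
  rw [Nat.card_perm, Nat.card_perm, Nat.card_eq_fintype_card, Nat.card_eq_fintype_card,
    Nat.factorization_def _ hp, Nat.factorization_def _ hp, hα, padicValNat_factorial_mul_add _ hr,
    padicValNat_factorial_mul, add_comm]

theorem sylIn_wr {r : ℕ} (hr : r < p) (hα : Fintype.card α = p * Fintype.card I + r)
    (ι : I × ZMod p ↪ α) (P : Sylow p (Perm I)) : SylIn p (wr ι P) (⊤ : Subgroup (Perm α)) := by
  refine ⟨le_top, ?_⟩
  rw [card_wr, P.card_eq_multiplicity, Subgroup.card_top, card_perm_factorization hr hα, pow_add]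

/-- **Every Sylow `p`-subgroup of the alternating group is a wreath product.** -/
theorem exists_frame {r : ℕ} (hr : r < p) (hα : Fintype.card α = p * Fintype.card I + r)
    (P : Sylow p (Perm I)) (S : Sylow p (alternatingGroup α)) :
    ∃ ι : I × ZMod p ↪ α, (S : Subgroup (alternatingGroup α)) = (wr ι P).subgroupOf (alternatingGroup α) := by
  obtain ⟨ι⟩ : Nonempty (I × ZMod p ↪ α) := by
    apply Function.Embedding.nonempty_of_card_le
    rw [Fintype.card_prod, ZMod.card, hα]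
    nlinarith
  have h1 := (sylIn_wr hr hα ι P).inf_normal (M := alternatingGroup α) le_top (fun k _ m hm =>
    (inferInstance : (alternatingGroup α).Normal).conj_mem m hm k)
  obtain ⟨Q, hQ⟩ := h1.exists_sylow
  obtain ⟨g, hg⟩ := MulAction.exists_smul_eq (alternatingGroup α) Q S
  refine ⟨ι.trans (g : Perm α).toEmbedding, ?_⟩
  rw [← hg, wr_trans]
  ext x
  rw [Sylow.coe_subgroup_smul, Subgroup.mem_pointwise_smul_iff_inv_smul_mem, hQ,
    Subgroup.mem_subgroupOf, Subgroup.mem_subgroupOf, Subgroup.mem_map]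
  have h2 : (((MulAut.conj g)⁻¹ • x : alternatingGroup α) : Perm α) = (g : Perm α)⁻¹ * x * g := by
    rw [← map_inv, MulAut.smul_def, MulAut.conj_apply, inv_inv]
    rfl
  rw [h2, Subgroup.mem_inf]
  constructor
  · rintro ⟨h3, -⟩
    refine ⟨_, h3, ?_⟩
    show (g : Perm α) * ((g : Perm α)⁻¹ * x * g) * (g : Perm α)⁻¹ = x
    group
  · rintro ⟨y, hy, hyx⟩
    have h3 : (g : Perm α)⁻¹ * x * g = y := by
      rw [← hyx]
      show (g : Perm α)⁻¹ * (g * y * (g : Perm α)⁻¹) * g = y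
      group
    rw [h3]
    refine ⟨hy, ?_⟩
    rw [← h3]
    exact (alternatingGroup α).mul_mem ((alternatingGroup α).mul_mem ((alternatingGroup α).inv_mem g.2) x.2) g.2

end

/-! ### signs of the elements of the wreath product -/

section

variable [Fact p.Prime] [Fintype I] [DecidableEq I] [Fintype α] [DecidableEq α]

theorem T_tr_sub_mem (ι : I × ZMod p ↪ α) (i j : I) :
    T ι (tr (Pi.single i 1 - Pi.single j 1)) ∈ alternatingGroup α := by
  rw [mem_alternatingGroup, sign_T, tr_sub, map_mul, map_inv]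
  have h : (tr (Pi.single i 1 : I → ZMod p)) = bl (swap i j) * tr (Pi.single j 1) * (bl (swap i j))⁻¹ := by
    rw [bl_tr]
    congr 1
    funext k
    rw [Function.comp_apply, symm_swap]
    by_cases hk : k = i
    · subst hk; simp
    · by_cases hk' : k = j
      · subst hk'
        rw [swap_apply_right, Pi.single_eq_of_ne hk, Pi.single_eq_of_ne (Ne.symm hk)]
      · rw [swap_apply_of_ne_of_ne hk hk', Pi.single_eq_of_ne hk, Pi.single_eq_of_ne hk']
  rw [h, map_mul, map_mul, map_inv]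
  rcases Int.units_eq_one_or (sign (tr (Pi.single j 1 : I → ZMod p))) with h1 | h1 <;>
    rcases Int.units_eq_one_or (sign (bl (swap i j) : Perm (I × ZMod p))) with h2 | h2 <;>
    rw [h1, h2] <;> decide

theorem T_bl_mem (ι : I × ZMod p ↪ α) {P : Subgroup (Perm I)} (hP : IsPGroup p P) {σ : Perm I} (hσ : σ ∈ P) :
    T ι (bl σ) ∈ alternatingGroup α := by
  rw [mem_alternatingGroup, sign_T, sign_bl]
  have hp : p.Prime := Fact.out
  obtain ⟨k, hk⟩ := hP ⟨σ, hσ⟩
  have hk' : σ ^ p ^ k = 1 := congrArg Subtype.val hk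
  rcases hp.eq_two_or_odd' with h2 | h2
  · subst h2
    rcases Int.units_eq_one_or (sign σ) with h1 | h1 <;> rw [h1] <;> decide
  · rw [sign_eq_one_of_odd_pow (h2.pow) hk', one_pow]

end

end Cfsg.Agent.H761
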